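import Mathlib
import Cfsg.Agent.Lib.SpecSq.JD

/-!
Direct products of small Ree groups and their element orders: definitions.
-/

set_option autoImplicit false
set_option linter.unusedSectionVars false
set_option linter.unusedVariables false
set_option linter.style.haveILetI false

namespace CfsgLib.RP

open Cfsg Subgroup CfsgLib.BG CfsgLib.CIT.App CfsgLib.Comp CfsgLib.SpecSq
open scoped commutatorElement MatrixGroups

variable {G : Type*} [Group G] [Finite G] {Γ : Type*} [Group Γ] [Finite Γ] {π : G →* Γ}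
  {k : ℕ} {m : Fin k → ℕ}

/-- the orders of the four maximal cyclic tori of the Ree group over the field with `3 ^ (2 n + 1)` elements -/
def tn (n : ℕ) : Fin 4 → ℕ :=
  ![3 ^ (2 * n + 1) - 1, (3 ^ (2 * n + 1) + 1) / 2, 3 ^ (2 * n + 1) + 3 ^ (n + 1) + 1,
    3 ^ (2 * n + 1) - 3 ^ (n + 1) + 1]

/-- the element orders of the Ree group -/
def Om (n d : ℕ) : Prop := d ∣ 6 ∨ d ∣ 9 ∨ ∃ j, d ∣ tn n j

/-- `r` is a prime of class `j` for the parameter `n` -/
def Cp (n : ℕ) (j : Fin 4) (r : ℕ) : Prop := r.Prime ∧ r ≠ 2 ∧ r ≠ 7 ∧ r ∣ tn n j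

/-- good families of parameters -/
structure Par (m : Fin k → ℕ) : Prop where
  prime : ∀ i, (2 * m i + 1).Prime
  md : ∀ i, (2 * m i + 1) % 84 = 1
  inj : Function.Injective m
  nd : ∀ i i' j, ¬ (2 * m i + 1) ∣ tn (m i') j

/-- every element order occurs in the direct product -/
def U (m : Fin k → ℕ) (G : Type*) [Group G] : Prop :=
  ∀ g : G, ∃ o : Fin k → ℕ, (∀ i, Om (m i) (o i)) ∧ orderOf g ∣ Finset.univ.lcm o

/-- the orders that are needed from below -/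
structure Lo (m : Fin k → ℕ) (G : Type*) [Group G] : Prop where
  dvd : ∀ i j r, Cp (m i) j r → r ∣ Nat.card G
  adj : ∀ i i' j j' r r', i ≠ i' → Cp (m i) j r → Cp (m i') j' r' → HasOrd G (r * r')

/-- the quotient by the solvable radical; `b i` is the bad class of the index `i` -/
structure Sd (m : Fin k → ℕ) (Γ : Type*) [Group Γ] [Finite Γ] (b : Fin k → Fin 4) : Prop where
  par : Par m
  up : U m Γ
  fit : fittingSubgroup Γ = ⊥
  dvd : ∀ i j r, j ≠ b i → Cp (m i) j r → r ∣ Nat.card (layer Γ)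
  adj : ∀ i i' j j' r r', i ≠ i' → j ≠ b i → j' ≠ b i' → Cp (m i) j r → Cp (m i') j' r' →
    ∃ y ∈ layer Γ, orderOf y = r * r'

/-- the components attached to the indices -/
structure Sc (m : Fin k → ℕ) (b : Fin k → Fin 4) (S : Fin k → Subgroup Γ) : Prop where
  sd : Sd m Γ b
  comp : ∀ i, IsComponent (S i)
  dvd : ∀ i j r, j ≠ b i → Cp (m i) j r → r ∣ Nat.card (S i)
  uniq : ∀ i j r T, Cp (m i) j r → IsComponent T → r ∣ Nat.card T → T = S i

/-- `x ∈ S` acts fixed-point-freely on a nontrivial `t`-subgroup of `S` -/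
def Fp (t : ℕ) (S : Subgroup Γ) (x : Γ) : Prop :=
  x ∈ S ∧ ∃ Q : Subgroup Γ, IsPiSubgroup {t} Q ∧ Q ≠ ⊥ ∧ Q ≤ S ∧ x ∈ 𝒩(Q) ∧ Semiregular Q (zpowers x)

/-- the properties of a Ree subgroup that are used -/
structure Rp (n : ℕ) (S : Subgroup Γ) : Prop where
  simp : Simp S
  der : ⁅S, S⁆ = S
  inf_cent : S ⊓ 𝒞(S) = ⊥
  ord : ∀ d, (∃ g ∈ S, orderOf g = d) ↔ Om n d
  out : ∀ g ∈ 𝒩(S), g ^ (2 * n + 1) ∈ S ⊔ 𝒞(S)
  fr3 : ∀ s, Cp n 0 s → ∃ x, orderOf x = s ∧ Fp 3 S x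
  fr7 : ∃ x, orderOf x = 7 ∧ Fp 2 S x

/-- `Γ` is the direct product of the Ree subgroups `S i` -/
structure Dp (m : Fin k → ℕ) (S : Fin k → Subgroup Γ) : Prop where
  rp : ∀ i, Rp (m i) (S i)
  comm : ∀ i i', i ≠ i' → S i ≤ 𝒞(S i')
  dec : ∀ i g, g ∈ S i ⊔ 𝒞(S i)
  cent : ∀ g, (∀ i, g ∈ 𝒞(S i)) → g = 1

/-- a cover with a minimal normal elementary abelian kernel -/
structure Cov (π : G →* Γ) (r : ℕ) : Prop where
  prime : r.Prime
  surj : Function.Surjective π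
  ne : π.ker ≠ ⊥
  ab : IsElementaryAbelian r π.ker
  min : ∀ W : Subgroup G, W.Normal → W ≤ π.ker → W = ⊥ ∨ W = π.ker

/-- `x` has fixed points on every nonzero `S`-submodule of the kernel -/
def Fx (π : G →* Γ) (S : Subgroup Γ) (x : Γ) : Prop :=
  ∀ W : Subgroup G, W ≤ π.ker → W ≠ ⊥ → S.comap π ≤ 𝒩(W) → W ⊓ 𝒞((zpowers x).comap π) ≠ ⊥

theorem ree_ord {K : Type*} [Field K] [Fintype K] {n : ℕ} (hn : 1 ≤ n)
    (hK : Fintype.card K = 3 ^ (2 * n + 1)) (d : ℕ) :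
    HasOrd (Lie.twistedG2 K (3 ^ n)) d ↔ Om n d := by
  haveI := Ree.charP_three hK
  refine ((Ree.reeModel hK).exists_orderOf_iff (Ree.isTits_tits hK) hn (Ree.natCard_eq hK) d).trans ?_
  simp only [Om, Fin.exists_fin_succ, tn, Matrix.cons_val_zero, Matrix.cons_val_succ,
    IsEmpty.exists_iff, or_false]
  tauto

theorem Par.one_le (h : Par m) (i : Fin k) : 1 ≤ m i := by
  have := (h.prime i).one_lt
  omega

end CfsgLib.RP
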