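import Mathlib
import Cfsg.Agent.Lib.RP.Defs

/-!
Arithmetic of the torus orders, one parameter.
-/

set_option autoImplicit false
set_option linter.unusedSectionVars false
set_option linter.unusedVariables false
set_option linter.style.haveILetI false

namespace CfsgLib.RP

open Cfsg Subgroup CfsgLib.BG CfsgLib.CIT.App CfsgLib.Comp CfsgLib.SpecSq
open scoped commutatorElement MatrixGroups

variable {G : Type*} [Group G] [Finite G] {Γ : Type*} [Group Γ] [Finite Γ] {π : G →* Γ}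
  {k : ℕ} {m : Fin k → ℕ}

/-! Write `q = 3 ^ (2 n + 1)`, `e = 3 ^ (n + 1)`, so `e ^ 2 = 3 q`, `tn n 2 * tn n 3 = q ^ 2 - q + 1`, `q % 8 = 3`. -/

theorem ar1_eq (n : ℕ) : ∃ x y, x = 3 ^ n ∧ y = x * x ∧ x ≤ y ∧ x % 2 = 1 ∧ y % 8 = 1 ∧ 3 ^ (2 * n + 1) = 3 * y ∧
    tn n 0 + 1 = 3 * y ∧ 2 * tn n 1 = 3 * y + 1 ∧ tn n 2 = 3 * y + 3 * x + 1 ∧ tn n 3 + 3 * x = 3 * y + 1 := by
  have h1 : 3 ^ n % 2 = 1 := by rw [Nat.pow_mod]; simp
  have h2 : 3 ^ n * 3 ^ n % 8 = 1 := by rw [← mul_pow, Nat.pow_mod]; simp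
  have h3 : 3 ^ (2 * n + 1) = 3 * (3 ^ n * 3 ^ n) := by ring
  have h4 : 3 ^ (n + 1) = 3 * 3 ^ n := by ring
  have h5 : 3 ^ n ≤ 3 ^ n * 3 ^ n := Nat.le_mul_self _
  refine ⟨_, _, rfl, rfl, h5, h1, h2, h3, ?_, ?_, ?_, ?_⟩ <;>
    simp only [tn, Matrix.cons_val_zero, Matrix.cons_val_one, Matrix.cons_val, h3, h4] <;> omega

theorem ar1_cases (j : Fin 4) : j = 0 ∨ j = 1 ∨ j = 2 ∨ j = 3 := by revert j; decide

theorem ar1_49 {n : ℕ} (h : (2 * n + 1) % 84 = 1) : 3 ^ n % 49 = 1 ∧ 3 ^ n * 3 ^ n % 49 = 1 := by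
  obtain ⟨c, rfl⟩ : ∃ c, n = 42 * c := ⟨n / 42, by omega⟩
  have : 3 ^ (42 * c) % 49 = 1 := by rw [pow_mul, Nat.pow_mod]; norm_num
  exact ⟨this, by rw [Nat.mul_mod, this]⟩

theorem ar1_ex {N : ℕ} (h : 14 < N) (h4 : ¬ 4 ∣ N) (h49 : ¬ 49 ∣ N) : ∃ r, r.Prime ∧ r ≠ 2 ∧ r ≠ 7 ∧ r ∣ N := by
  have key : ∀ M, M ∣ N → M ≠ 1 → ¬ 2 ∣ M → ¬ 7 ∣ M → ∃ r, r.Prime ∧ r ≠ 2 ∧ r ≠ 7 ∧ r ∣ N := fun M h1 h2 h3 h4 => by
    obtain ⟨r, hr, e⟩ := Nat.exists_prime_and_dvd h2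
    exact ⟨r, hr, by rintro rfl; exact h3 e, by rintro rfl; exact h4 e, e.trans h1⟩
  by_cases a : 2 ∣ N <;> by_cases b : 7 ∣ N
  · exact key (N / 14) ⟨14, by omega⟩ (by omega) (by omega) (by omega)
  · exact key (N / 2) ⟨2, by omega⟩ (by omega) (by omega) (by omega)
  · exact key (N / 7) ⟨7, by omega⟩ (by omega) (by omega) (by omega)
  · exact key N dvd_rfl (by omega) a b

theorem tn_pos (n : ℕ) (j : Fin 4) : 0 < tn n j := by
  obtain ⟨x, y, -, -, h0, h1, h2, -, h3, h4, h5, h6⟩ := ar1_eq n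
  rcases ar1_cases j with rfl | rfl | rfl | rfl <;> omega

theorem tn_mul (n : ℕ) : tn n 2 * tn n 3 + 3 ^ (2 * n + 1) = (3 ^ (2 * n + 1)) ^ 2 + 1 := by
  obtain ⟨x, y, -, hy, h0, h1, h2, e, h3, h4, h5, h6⟩ := ar1_eq n
  rw [e, h5]
  subst hy
  zify at h6 ⊢
  linear_combination (3 * ((x : ℤ) * x) + 3 * x + 1) * h6

theorem not3 (n : ℕ) (j : Fin 4) : ¬ 3 ∣ tn n j := by
  obtain ⟨x, y, -, -, h0, h1, h2, -, h3, h4, h5, h6⟩ := ar1_eq n
  rcases ar1_cases j with rfl | rfl | rfl | rfl <;> omega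

theorem not4 (n : ℕ) (j : Fin 4) : ¬ 4 ∣ tn n j := by
  obtain ⟨x, y, -, -, h0, h1, h2, -, h3, h4, h5, h6⟩ := ar1_eq n
  rcases ar1_cases j with rfl | rfl | rfl | rfl <;> omega

theorem not5 (n : ℕ) (j : Fin 4) : ¬ 5 ∣ tn n j := by
  obtain ⟨x, y, -, hy, h0, h1, h2, -, h3, h4, h5, h6⟩ := ar1_eq n
  have h7 : x % 5 = 0 ∧ y % 5 = 0 ∨ x % 5 = 1 ∧ y % 5 = 1 ∨ x % 5 = 2 ∧ y % 5 = 4 ∨ x % 5 = 3 ∧ y % 5 = 4 ∨
      x % 5 = 4 ∧ y % 5 = 1 := by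
    rw [hy, Nat.mul_mod]
    have := Nat.mod_lt x (by norm_num : 0 < 5)
    interval_cases x % 5 <;> simp
  rcases ar1_cases j with rfl | rfl | rfl | rfl <;> omega

theorem odd3 (n : ℕ) : ¬ 2 ∣ tn n 3 := by
  obtain ⟨x, y, -, -, h0, h1, h2, -, h3, h4, h5, h6⟩ := ar1_eq n
  omega

theorem tn_dvd (n : ℕ) (j : Fin 4) : tn n j ∣ 3 ^ (6 * (2 * n + 1)) - 1 := by
  have h7 := tn_mul n
  obtain ⟨x, y, -, -, h0, h1, h2, e, h3, h4, -, -⟩ := ar1_eq n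
  have h8 : 3 ^ (6 * (2 * n + 1)) - 1 = tn n 0 * tn n 1 * tn n 2 * tn n 3 * (2 * ((3 * y) ^ 2 + 3 * y + 1)) := by
    rw [mul_comm 6, pow_mul, e]
    rw [e] at h7
    refine Nat.sub_eq_of_eq_add ?_
    zify at h3 h4 h7 ⊢
    have a1 : (tn n 0 : ℤ) = 3 * y - 1 := by linarith
    have a2 : (tn n 2 : ℤ) * tn n 3 = (3 * y) ^ 2 - 3 * y + 1 := by linarith
    calc _ = (tn n 0 : ℤ) * (2 * tn n 1) * (tn n 2 * tn n 3) * ((3 * (y : ℤ)) ^ 2 + 3 * y + 1) + 1 := by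
          rw [a1, a2, h4]; ring
      _ = _ := by ring
  rw [h8]
  rcases ar1_cases j with rfl | rfl | rfl | rfl
  exacts [(((dvd_mul_right _ _).mul_right _).mul_right _).mul_right _,
    (((dvd_mul_left _ _).mul_right _).mul_right _).mul_right _,
    ((dvd_mul_left _ _).mul_right _).mul_right _, (dvd_mul_left _ _).mul_right _]

/-- the torus orders are pairwise coprime away from `2` -/
theorem tn_cop {n r : ℕ} {j j' : Fin 4} (hr : r.Prime) (h2 : r ≠ 2) (hj : r ∣ tn n j)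
    (hj' : r ∣ tn n j') : j = j' := by
  have h7 := tn_mul n
  have n3 := not3 n j
  obtain ⟨x, y, hx, -, h0, h1, -, e, h3, h4, h5, h6⟩ := ar1_eq n
  have key : ¬ (r : ℤ) ∣ 6 * x := fun hd => by
    have : r ∣ 2 * 3 ^ (n + 1) := by
      rw [pow_succ, ← hx, show 2 * (x * 3) = 6 * x by ring]; exact_mod_cast hd
    rcases (Nat.Prime.dvd_mul hr).1 this with h | h
    · exact h2 ((Nat.prime_dvd_prime_iff_eq hr Nat.prime_two).1 h)
    · exact n3 (((Nat.prime_dvd_prime_iff_eq hr Nat.prime_three).1 (hr.dvd_of_dvd_pow h)) ▸ hj)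
  rw [e] at h7
  zify at h3 h4 h5 h6 h7
  have k : ∀ a b : Fin 4, r ∣ tn n a → r ∣ tn n b → ∀ u v : ℤ, 6 * x = u * tn n a + v * tn n b → False :=
    fun a b ha hb u v e => key (e ▸ dvd_add ((Int.natCast_dvd_natCast.2 ha).mul_left _)
      ((Int.natCast_dvd_natCast.2 hb).mul_left _))
  have k01 := fun ha hb => k 0 1 ha hb (-3 * x) (6 * x) (by linear_combination 3 * x * h3 - 3 * x * h4)
  have k02 := fun ha hb => k 0 2 ha hb (-6 * x * (3 * y)) (6 * x * tn n 3)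
    (by linear_combination 6 * x * (3 * y) * h3 - 6 * x * h7)
  have k03 := fun ha hb => k 0 3 ha hb (-6 * x * (3 * y)) (6 * x * tn n 2)
    (by linear_combination 6 * x * (3 * y) * h3 - 6 * x * h7)
  have k12 := fun ha hb => k 1 2 ha hb (-4 * x * (3 * y - 2)) (2 * x * tn n 3)
    (by linear_combination 2 * x * (3 * y - 2) * h4 - 2 * x * h7)
  have k13 := fun ha hb => k 1 3 ha hb (-4 * x * (3 * y - 2)) (2 * x * tn n 2)
    (by linear_combination 2 * x * (3 * y - 2) * h4 - 2 * x * h7)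
  have k23 := fun ha hb => k 2 3 ha hb 1 (-1) (by linear_combination h6 - h5)
  rcases ar1_cases j with rfl | rfl | rfl | rfl <;> rcases ar1_cases j' with rfl | rfl | rfl | rfl <;>
    first | rfl | (exfalso; tauto)

/-- `q ≡ e ≡ 3` modulo `49` -/
theorem seven {n : ℕ} (h : (2 * n + 1) % 84 = 1) {j : Fin 4} : 7 ∣ tn n j ↔ j = 2 := by
  obtain ⟨a, b⟩ := ar1_49 h
  obtain ⟨x, y, rfl, rfl, h0, h1, h2, -, h3, h4, h5, h6⟩ := ar1_eq n
  rcases ar1_cases j with rfl | rfl | rfl | rfl <;> simp <;> omega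

/-- `(q-1)/2`, `(q+1)/4`, `tn n 2 / 7`, `tn n 3` are odd, prime to `7` and bigger than `1` -/
theorem ex_cp {n : ℕ} (h : (2 * n + 1) % 84 = 1) (hn : 1 ≤ n) (j : Fin 4) : ∃ r, Cp n j r := by
  obtain ⟨a, b⟩ := ar1_49 h
  have c : 3 ≤ 3 ^ n := Nat.le_self_pow (by omega) 3
  have d : 3 * 3 ^ n ≤ 3 ^ n * 3 ^ n := Nat.mul_le_mul_right _ c
  have n4 := not4 n j
  obtain ⟨x, y, rfl, rfl, h0, h1, h2, -, h3, h4, h5, h6⟩ := ar1_eq n
  refine ar1_ex ?_ n4 ?_ <;> rcases ar1_cases j with rfl | rfl | rfl | rfl <;> omega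

theorem Cp.five_le {n r : ℕ} {j : Fin 4} (h : Cp n j r) : 5 ≤ r := h.1.five_le_of_ne_two_of_ne_three h.2.1 fun e => not3 n j (e ▸ h.2.2.2)

/-- an element order divisible by a class prime divides the torus order of the class -/
theorem Cp.dvd_of_om {n r d : ℕ} {j : Fin 4} (h : Cp n j r) (hd : Om n d) (hr : r ∣ d) :
    d ∣ tn n j := by
  have h5 := h.five_le
  rcases hd with e | e | ⟨j', e⟩
  · have h6 := hr.trans e
    have := Nat.le_of_dvd (by norm_num) h6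
    have := h.1
    interval_cases r <;> simp_all (config := { decide := true })
  · have := (Nat.prime_dvd_prime_iff_eq h.1 Nat.prime_three).1 (h.1.dvd_of_dvd_pow (n := 2) (hr.trans e))
    omega
  · rwa [tn_cop h.1 h.2.1 h.2.2.2 (hr.trans e)]

end CfsgLib.RP
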