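import Mathlib
import Cfsg.Agent.Lib.RP.Ar1

/-!
Arithmetic of the torus orders, several parameters.
-/

set_option autoImplicit false
set_option linter.unusedSectionVars false
set_option linter.unusedVariables false
set_option linter.style.haveILetI false

namespace CfsgLib.RP

open Cfsg Subgroup CfsgLib.BG CfsgLib.CIT.App CfsgLib.Comp CfsgLib.SpecSq
open scoped commutatorElement MatrixGroups

variable {G : Type*} [Group G] [Finite G] {Γ : Type*} [Group Γ] [Finite Γ] {π : G →* Γ}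
  {k : ℕ} {m : Fin k → ℕ}

theorem ar2_cube (n : ℕ) {j : Fin 4} (hj : j ≠ 0) : tn n j ∣ (3 ^ (2 * n + 1)) ^ 3 + 1 := by
  have h := tn_mul n
  have e : (3 ^ (2 * n + 1)) ^ 3 + 1 = (3 ^ (2 * n + 1) + 1) * (tn n 2 * tn n 3) := by
    zify at h ⊢
    linear_combination (-(3 ^ (2 * n + 1) + 1) : ℤ) * h
  rw [e]
  fin_cases j
  · exact absurd rfl hj
  · exact (Nat.div_dvd_of_dvd (Odd.add_one (Odd.pow (by decide))).two_dvd).mul_right _
  · exact (dvd_mul_right _ _).mul_left _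
  · exact (dvd_mul_left _ _).mul_left _

theorem ar2_gcd {r a b : ℕ} (ha : r ∣ 3 ^ a - 1) (hb : r ∣ 3 ^ b - 1) : r ∣ 3 ^ Nat.gcd a b - 1 := by
  rw [← Nat.pow_sub_one_gcd_pow_sub_one]
  exact Nat.dvd_gcd ha hb

theorem ar2_13 (t : ℕ) : 3 ^ (84 * t + 1) % 13 = 3 := by
  rw [pow_succ, pow_mul, Nat.mul_mod, Nat.pow_mod]
  norm_num

/-- if `i ≠ i'` the order of `3` modulo `r` divides `6 p` and `6 p'`, so `r ∣ 728`, `r = 13`;
but `q ≡ 3` modulo `13` and `13` divides none of `q - 1`, `q + 1`, `q ^ 2 - q + 1` -/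
theorem Par.excl (hP : Par m) {i i' : Fin k} {j j' : Fin 4} {r : ℕ} (h : Cp (m i) j r)
    (hd : r ∣ tn (m i') j') : i = i' ∧ j = j' := by
  obtain ⟨hr, h2, h7, hj⟩ := h
  by_cases e : i = i'
  · subst e
    exact ⟨rfl, tn_cop hr h2 hj hd⟩
  exfalso
  have h1 := ar2_gcd (hj.trans (tn_dvd _ _)) (hd.trans (tn_dvd _ _))
  have hc : Nat.gcd (2 * m i + 1) (2 * m i' + 1) = 1 :=
    (Nat.coprime_primes (hP.prime i) (hP.prime i')).2 fun h => e (hP.inj (by omega))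
  rw [Nat.gcd_mul_left, hc, show 3 ^ (6 * 1) - 1 = 2 ^ 3 * 7 * 13 by norm_num] at h1
  have h13 : r = 13 := by
    rcases (Nat.Prime.dvd_mul hr).1 h1 with h1 | h1
    · rcases (Nat.Prime.dvd_mul hr).1 h1 with h1 | h1
      · exact absurd ((Nat.prime_dvd_prime_iff_eq hr Nat.prime_two).1 (hr.dvd_of_dvd_pow h1)) h2
      · exact absurd ((Nat.prime_dvd_prime_iff_eq hr (by norm_num)).1 h1) h7
    · exact (Nat.prime_dvd_prime_iff_eq hr (by norm_num)).1 h1
  subst h13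
  have hq : 3 ^ (2 * m i + 1) % 13 = 3 := by
    have := hP.md i
    rw [show 2 * m i + 1 = 84 * ((2 * m i + 1) / 84) + 1 by omega]
    exact ar2_13 _
  by_cases h0 : j = 0
  · subst h0
    have : 13 ∣ 3 ^ (2 * m i + 1) - 1 := hj
    generalize 3 ^ (2 * m i + 1) = q at this hq
    omega
  · have := Nat.mod_eq_zero_of_dvd (hj.trans (ar2_cube _ h0))
    rw [Nat.add_mod, Nat.pow_mod, hq] at this
    norm_num at this

theorem ar_37 {n r : ℕ} (hd : r ∣ 3 ^ (2 * n + 1) - 1) : r ≠ 3 ∧ r ≠ 7 := by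
  refine ⟨fun e => not3 n 0 (e ▸ hd), fun e => ?_⟩
  have h : ∀ n, 3 ^ (2 * n + 1) % 7 = 3 ∨ 3 ^ (2 * n + 1) % 7 = 6 ∨ 3 ^ (2 * n + 1) % 7 = 5 := fun n => by
    induction n with
    | zero => exact .inl rfl
    | succ n ih =>
      rw [show 3 ^ (2 * (n + 1) + 1) = 3 ^ (2 * n + 1) * 9 by ring]
      omega
  have := h n
  subst e
  generalize 3 ^ (2 * n + 1) = q at this hd
  omega

/-- the order `o` of `3` modulo `r` is odd and divides `6 p`, so `o ∣ 3 p` and `r ∣ q ^ 3 - 1`;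
for `j ≠ 0` also `r ∣ q ^ 3 + 1`, so `r = 2`; for `j = 0`, `o ∣ p`, `o ≠ 1` -/
theorem ar_dvd {n n' r : ℕ} {j : Fin 4} (hp : (2 * n + 1).Prime) (hr : r.Prime) (h2 : r ≠ 2)
    (hd : r ∣ 3 ^ (2 * n' + 1) - 1) (hj : r ∣ tn n j) : j = 0 ∧ (2 * n + 1) ∣ (2 * n' + 1) := by
  have n2 : ¬ r ∣ 2 := fun h => h2 ((Nat.prime_dvd_prime_iff_eq hr Nat.prime_two).1 h)
  have h0 : j = 0 := by
    by_contra h0
    have h1 := ar2_gcd (hj.trans (tn_dvd _ _)) hd
    have hg : Nat.gcd (6 * (2 * n + 1)) (2 * n' + 1) ∣ (2 * n + 1) * 3 := by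
      refine Nat.Coprime.dvd_of_dvd_mul_left (m := 2) ?_ ?_
      · exact Nat.Coprime.coprime_dvd_left (Nat.gcd_dvd_right _ _) ((Nat.coprime_two_right).2 ⟨n', rfl⟩)
      · rw [show 2 * ((2 * n + 1) * 3) = 6 * (2 * n + 1) by ring]
        exact Nat.gcd_dvd_left _ _
    have h3 := h1.trans (Nat.pow_sub_one_dvd_pow_sub_one 3 hg)
    have h4 := hj.trans (ar2_cube n h0)
    rw [pow_mul] at h3
    have h5 : 0 < (3 ^ (2 * n + 1)) ^ 3 := by positivity
    have := Nat.dvd_sub h4 h3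
    rw [show (3 ^ (2 * n + 1)) ^ 3 + 1 - ((3 ^ (2 * n + 1)) ^ 3 - 1) = 2 by omega] at this
    exact n2 this
  subst h0
  refine ⟨rfl, ?_⟩
  by_contra h
  have h1 := ar2_gcd (a := 2 * n + 1) hj hd
  rw [(Nat.Prime.coprime_iff_not_dvd hp).2 h] at h1
  exact n2 h1

theorem ar_eq {n n' : ℕ} (h : (2 * n + 1) ∣ (2 * n' + 1))
    (hd : (3 ^ (2 * n' + 1) - 1) / 2 ∣ 3 ^ (2 * n + 1) - 1) : n' = n := by
  by_contra e
  have h1 := Nat.le_of_dvd (by omega) h
  have h2 : 3 ^ (2 * n + 1 + 1) ≤ 3 ^ (2 * n' + 1) := Nat.pow_le_pow_right (by norm_num) (by omega)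
  have h3 : 3 ^ 1 ≤ 3 ^ (2 * n + 1) := Nat.pow_le_pow_right (by norm_num) (by omega)
  have h4 := Nat.le_of_dvd (by omega) hd
  rw [pow_succ 3 (2 * n + 1)] at h2
  omega

/-- a prime dividing a least common multiple divides a member -/
theorem prime_dvd_lcm {ι : Type*} [Fintype ι] {f : ι → ℕ} {r : ℕ} (hr : r.Prime)
    (h : r ∣ Finset.univ.lcm f) : ∃ i, r ∣ f i := by
  obtain ⟨i, -, hi⟩ := hr.prime.exists_mem_finset_dvd
    (h.trans (Finset.lcm_dvd fun b hb => Finset.dvd_prod_of_mem f hb))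
  exact ⟨i, hi⟩

/-- a prime power dividing a least common multiple of nonzero numbers divides a member -/
theorem pow_dvd_lcm {ι : Type*} [Fintype ι] {f : ι → ℕ} {r e : ℕ} (hr : r.Prime) (he : 1 ≤ e)
    (hf : ∀ i, f i ≠ 0) (h : r ^ e ∣ Finset.univ.lcm f) : ∃ i, r ^ e ∣ f i := by
  classical
  generalize (Finset.univ : Finset ι) = s at h
  induction s using Finset.induction_on with
  | empty => exact absurd (Nat.dvd_one.1 ((dvd_pow_self r (by omega)).trans h)) hr.ne_one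
  | insert a s _ ih =>
    have h0 : s.lcm f ≠ 0 := Finset.lcm_ne_zero_iff.2 fun i _ => hf i
    rw [Finset.lcm_insert, lcm_eq_nat_lcm, hr.pow_dvd_iff_le_factorization (Nat.lcm_ne_zero (hf a) h0),
      Nat.factorization_lcm (hf a) h0, Finsupp.sup_apply, le_sup_iff, ← hr.pow_dvd_iff_le_factorization (hf a),
      ← hr.pow_dvd_iff_le_factorization h0] at h
    exact h.elim (fun h => ⟨a, h⟩) ih

/-- a divisor of a least common multiple that is prime to all members but one -/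
theorem dvd_of_dvd_lcm {ι : Type*} [Fintype ι] {f : ι → ℕ} {n : ℕ} (i : ι)
    (h : n ∣ Finset.univ.lcm f) (hc : ∀ i', i' ≠ i → n.Coprime (f i')) : n ∣ f i := by
  classical
  have h1 := h.trans (Finset.lcm_dvd fun b hb => Finset.dvd_prod_of_mem f hb)
  rw [← Finset.mul_prod_erase _ _ (Finset.mem_univ i)] at h1
  exact (Nat.Coprime.prod_right fun j hj => hc j (Finset.ne_of_mem_erase hj)).dvd_of_dvd_mul_right h1

end CfsgLib.RP
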