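import Mathlib
import Cfsg.Agent.Lib.RP.Defs

/-!
The layer of a group with trivial Fitting subgroup and without elements of order four.
-/

set_option autoImplicit false
set_option linter.unusedSectionVars false
set_option linter.unusedVariables false
set_option linter.style.haveILetI false

namespace CfsgLib.RP

open Cfsg Subgroup CfsgLib.BG CfsgLib.CIT.App CfsgLib.Comp CfsgLib.SpecSq
open scoped commutatorElement MatrixGroups

variable {G : Type*} [Group G] [Finite G] {Γ : Type*} [Group Γ] [Finite Γ] {π : G →* Γ}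
  {k : ℕ} {m : Fin k → ℕ}

/-- A Sylow `2`-subgroup lies in the layer, so the quotient has odd order. -/
theorem lay_sol [(layer Γ).Normal] (hF : fittingSubgroup Γ = ⊥) (h4 : ¬ HasOrd Γ (2 ^ 2)) :
    Group.IsSolvable (Γ ⧸ layer Γ) := by
  have h2 := Nat.prime_two
  haveI := Fact.mk h2
  obtain ⟨T⟩ : Nonempty (Sylow 2 Γ) := inferInstance
  have hT := isSylowOf_top h2 T
  have h1 : (T : Subgroup Γ) ≤ layer Γ := Abel2.sylow_le_of_centralizer_eq_bot _
    (eq_bot_of_cents hF fun L hL => centS (comp_le_layer hL)) (by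
      haveI := Core.pPrimeCore_characteristic 2 (layer Γ)
      rw [← map_eq_bot_iff_of_injective _ (layer Γ).subtype_injective, eq_bot_iff, ← hF]
      refine le_fit_of_solvable_of_isSubnormal_of_le_fstar
        (ConjAct.normal_of_characteristic_of_normal).isSubnormal (FT.odd_subgroup_solvable ?_)
        ((map_subtype_le _).trans layer_le_fstar)
      rw [card_map_of_injective (layer Γ).subtype_injective]
      exact Nat.coprime_two_right.1 (Core.coprime_card_pPrimeCore 2 _)) T
    (abelem_two h4 hT.2.1).1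
  refine FT.odd_order_solvable ?_
  rw [← index_eq_card, ← Nat.not_even_iff_odd, even_iff_two_dvd]
  exact fun h => T.not_dvd_index (h.trans (index_dvd_of_le h1))

/-- A prime divisor of the order of the layer divides the order of a component. -/
theorem lay_dvd {r : ℕ} (hr : r.Prime) (h : r ∣ Nat.card (layer Γ)) :
    ∃ T : Subgroup Γ, IsComponent T ∧ r ∣ Nat.card T := by
  by_contra hn
  push Not at hn
  have hE : IsPiSubgroup {p | p ≠ r} (layer Γ) := pigroupS (layer_le_iff.2 fun L hL =>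
    pcore_max ⟨comp_le_layer hL, layer_le_normalizer_comp hL⟩ fun p hp hd (e : p = r) => hn L hL (e ▸ hd))
    (pcore_pgroup _ _)
  exact hE r hr h rfl

/-- The components are simple. -/
theorem comp_simp (hF : fittingSubgroup Γ = ⊥) {S : Subgroup Γ} (hS : IsComponent S) :
    Simp S ∧ ⁅S, S⁆ = S ∧ S ⊓ 𝒞(S) = ⊥ := by
  have h1 : S ⊓ 𝒞(S) = ⊥ := le_bot_iff.1 (hF ▸ comp_inf_centralizer_le_fit hS)
  exact ⟨fun N a b c => ((qs_sub_normal hS.2 a b).resolve_right fun h =>
    c (le_bot_iff.1 (h1 ▸ le_inf a h))).ge, comp_perfect hS, h1⟩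

/-- An element of the layer whose prime divisors meet only the component `S` lies in `S`. -/
theorem lay_mem (hF : fittingSubgroup Γ = ⊥) {S : Subgroup Γ} (hS : IsComponent S) {y : Γ}
    (hy : y ∈ layer Γ) (h : ∀ (p : ℕ) (T : Subgroup Γ), p.Prime → p ∣ orderOf y → IsComponent T →
      p ∣ Nat.card T → T = S) : y ∈ S := by
  have h1 := (comp_simp hF hS).2.2
  obtain ⟨X, hX⟩ : ∃ X, X = piCoreOf {p | ¬ p ∣ orderOf y} (layer Γ ⊓ 𝒞(S)) := ⟨_, rfl⟩
  have hXC : X ≤ 𝒞(S) := hX ▸ (pcore_sub _ _).trans inf_le_right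
  have hXp : IsPiSubgroup {p | ¬ p ∣ orderOf y} X := hX ▸ pcore_pgroup _ _
  have hl : layer Γ ≤ S ⊔ X := layer_le_iff.2 fun T hT => by
    by_cases e : T = S
    · exact e ▸ le_sup_left
    · refine le_sup_of_le_right (hX ▸ pcore_max ⟨le_inf (comp_le_layer hT) (comp_le_centralizer_of_ne hT hS e),
        inf_le_left.trans (layer_le_normalizer_comp hT)⟩ fun p hp hd hp' => e (h p T hp hp' hT hd))
  obtain ⟨l, hl, x, hx, e⟩ := (mem_sup_norm_l (cents_norm hXC)).1 (hl hy)
  have hk : (l * x) ^ orderOf y = 1 := by rw [e, pow_orderOf_eq_one]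
  rw [Commute.mul_pow (mem_cent_iff.1 (hXC hx) l hl)] at hk
  have h2 : l ^ orderOf y = 1 := by
    rw [← mem_bot, ← h1]
    exact ⟨pow_mem hl _, eq_inv_of_mul_eq_one_left hk ▸ (𝒞(S)).inv_mem (pow_mem (hXC hx) _)⟩
  rw [h2, one_mul] at hk
  have h3 : x = 1 := by
    rw [← orderOf_eq_one_iff]
    by_contra hne
    obtain ⟨p, hp, hd⟩ := Nat.exists_prime_and_dvd hne
    exact hXp p hp (hd.trans (order_dvdG hx)) (hd.trans (orderOf_dvd_of_pow_eq_one hk))
  rw [← e, h3, mul_one]
  exact hl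

/-- Walter's theorem for the components. -/
theorem comp_walter (hF : fittingSubgroup Γ = ⊥) (h4 : ¬ HasOrd Γ (2 ^ 2)) {L : Subgroup Γ}
    (hL : IsComponent L) :
    (∃ a : ℕ, 2 ≤ a ∧ ∃ (F : Type) (_ : Field F) (_ : Fintype F), Fintype.card F = 2 ^ a ∧
        Nonempty (L ≃* PSL(2, F))) ∨
      (∃ (F : Type) (_ : Field F) (_ : Fintype F), 5 ≤ Fintype.card F ∧
        (Fintype.card F % 8 = 3 ∨ Fintype.card F % 8 = 5) ∧ Nonempty (L ≃* PSL(2, F))) ∨
      Lie.IsoRee L ∨ Spor.IsoJ1 L := by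
  have h1 : L ⊓ 𝒞(L) = ⊥ := (comp_simp hF hL).2.2
  haveI := isSimpleGroup_of_qs_of_center_eq_bot hL.2 (by
    rwa [← map_eq_bot_iff_of_injective _ L.subtype_injective, map_center_subtype])
  haveI := Fact.mk Nat.prime_two
  have hab : Abel2.Ab2 L := fun T => (abelem_two (fun h => h4 h.of_subgroup)
    (isSylowOf_top Nat.prime_two T).2.1).1
  exact ReeRec.walter (qs_not_isMulCommutative hL.2) hab

end CfsgLib.RP
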