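import Mathlib
import Cfsg.Agent.Lib.RP.Lay
import Cfsg.Agent.Lib.RP.Ar1

/-!
The prime graphs of the components.
-/

set_option autoImplicit false
set_option linter.unusedSectionVars false
set_option linter.unusedVariables false
set_option linter.style.haveILetI false

namespace CfsgLib.RP

open Cfsg Subgroup CfsgLib.BG CfsgLib.CIT.App CfsgLib.Comp CfsgLib.SpecSq
open scoped commutatorElement MatrixGroups

variable {G : Type*} [Group G] [Finite G] {Γ : Type*} [Group Γ] [Finite Γ] {π : G →* Γ}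
  {k : ℕ} {m : Fin k → ℕ}

/-- `comp_walter`, then `psl2_even_hasOrd`, `psl2_odd_hasOrd`, `ree_ord`, `J1.card_J1` -/
theorem cmp_three (hF : fittingSubgroup Γ = ⊥) (h4 : ¬ HasOrd Γ (2 ^ 2)) {L : Subgroup Γ}
    (hL : IsComponent L) : 3 ∣ Nat.card L := by
  rcases comp_walter hF h4 hL with
    ⟨a, ha, F, _, _, hq, ⟨e⟩⟩ | ⟨F, _, _, h5, h8, ⟨e⟩⟩ | ⟨K, _, _, n, hn, hK, ⟨e⟩⟩ | ⟨⟨e⟩⟩
  · refine ((hasOrd_congr e).2 ((psl2_even_hasOrd (by omega) hq 3).2 (.inr ?_))).dvd_card
    have h1 : ¬ 3 ∣ 2 ^ a := fun h => by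
      have := Nat.prime_three.dvd_of_dvd_pow h
      omega
    have h2 : 0 < 2 ^ a := Nat.two_pow_pos a
    omega
  · obtain ⟨p, _, n, hp, hq⟩ := FiniteField.card' F
    have hodd : Odd (Fintype.card F) := Nat.odd_iff.2 (by omega)
    refine ((hasOrd_congr e).2 ((psl2_odd_hasOrd hp hq hodd 3).2 ?_)).dvd_card
    by_cases h3 : 3 ∣ Fintype.card F
    · exact .inl (Nat.prime_three.dvd_of_dvd_pow (hq ▸ h3))
    · obtain ⟨t, ht⟩ := hodd
      clear h8 h5
      rw [ht] at h3 ⊢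
      rw [show (2 * t + 1 - 1) / 2 = t by omega, show (2 * t + 1 + 1) / 2 = t + 1 by omega]
      right
      have : t % 3 = 0 ∨ t % 3 = 1 ∨ t % 3 = 2 := by omega
      rcases this with k | k | k <;> omega
  · exact ((hasOrd_congr e).2 ((ree_ord hn hK 3).2 (.inl (by norm_num)))).dvd_card
  · rw [Nat.card_congr e.toEquiv, J1.card_J1]
    norm_num

/-- the maximal element orders of each group of the list are pairwise coprime away from `2`, `3`
(`tn_cop` for the Ree groups, `j1_ord` for the Janko group) -/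
theorem cmp_trans (hF : fittingSubgroup Γ = ⊥) (h4 : ¬ HasOrd Γ (2 ^ 2)) {L : Subgroup Γ}
    (hL : IsComponent L) {a b c : ℕ} (ha : a.Prime) (hb : b.Prime) (hc : c.Prime) (ha5 : 5 ≤ a)
    (hb5 : 5 ≤ b) (hc5 : 5 ≤ c) (hab : a ≠ b) (hbc : b ≠ c) (hac : a ≠ c) (h1 : HasOrd L (a * b))
    (h2 : HasOrd L (b * c)) : HasOrd L (a * c) := by
  have hco : a.Coprime c := (Nat.coprime_primes ha hc).2 hac
  have key : ∀ t : ℕ, a * b ∣ t → b * c ∣ t → a * c ∣ t := fun t k1 k2 =>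
    hco.mul_dvd_of_dvd_of_dvd ((Dvd.intro _ rfl).trans k1) ((Dvd.intro_left _ rfl).trans k2)
  have l1 : 25 ≤ a * b := Nat.mul_le_mul ha5 hb5
  have l2 : 25 ≤ b * c := Nat.mul_le_mul hb5 hc5
  have d1 : b ∣ a * b := Dvd.intro_left _ rfl
  have d2 : b ∣ b * c := Dvd.intro _ rfl
  have small : ∀ {u t : ℕ}, 25 ≤ u → 0 < t → t < 25 → ¬ u ∣ t := fun k1 k2 k3 k4 => by
    have := Nat.le_of_dvd k2 k4
    omega
  have near : ∀ s t : ℕ, b ∣ s → b ∣ t → s < t → t ≤ s + 2 → False := fun s t k1 k2 k3 k4 => by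
    have := Nat.le_of_dvd (by omega) (Nat.dvd_sub k2 k1)
    omega
  rcases comp_walter hF h4 hL with
    ⟨n, hn, F, _, _, hq, ⟨e⟩⟩ | ⟨F, _, _, h5, h8, ⟨e⟩⟩ | ⟨K, _, _, n, hn, hK, ⟨e⟩⟩ | ⟨⟨e⟩⟩
  · have k0 := fun k => (hasOrd_congr e (k := k)).trans (psl2_even_hasOrd (by omega) hq k)
    have h0 : 0 < 2 ^ n := Nat.two_pow_pos n
    rw [k0] at h1 h2 ⊢
    rcases h1.resolve_left (small l1 (by norm_num) (by norm_num)) with k1 | k1 <;>
      rcases h2.resolve_left (small l2 (by norm_num) (by norm_num)) with k2 | k2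
    · exact .inr (.inl (key _ k1 k2))
    · exact (near _ _ (d1.trans k1) (d2.trans k2) (by omega) (by omega)).elim
    · exact (near _ _ (d2.trans k2) (d1.trans k1) (by omega) (by omega)).elim
    · exact .inr (.inr (key _ k1 k2))
  · obtain ⟨p, _, n, hp, hq⟩ := FiniteField.card' F
    have hodd : Odd (Fintype.card F) := Nat.odd_iff.2 (by omega)
    have k0 := fun k => (hasOrd_congr e (k := k)).trans (psl2_odd_hasOrd hp hq hodd k)
    have np : ∀ {u v : ℕ}, u.Prime → v.Prime → u ≠ v → ¬ u * v ∣ p := fun hu hv huv h =>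
      huv (((Nat.prime_dvd_prime_iff_eq hu hp).1 ((Dvd.intro _ rfl).trans h)).trans
        ((Nat.prime_dvd_prime_iff_eq hv hp).1 ((Dvd.intro_left _ rfl).trans h)).symm)
    rw [k0] at h1 h2 ⊢
    rcases h1.resolve_left (np ha hb hab) with k1 | k1 <;>
      rcases h2.resolve_left (np hb hc hbc) with k2 | k2
    · exact .inr (.inl (key _ k1 k2))
    · exact (near _ _ (d1.trans k1) (d2.trans k2) (by omega) (by omega)).elim
    · exact (near _ _ (d2.trans k2) (d1.trans k1) (by omega) (by omega)).elim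
    · exact .inr (.inr (key _ k1 k2))
  · have k0 := fun k => (hasOrd_congr e (k := k)).trans (ree_ord hn hK k)
    rw [k0] at h1 h2 ⊢
    obtain ⟨j, k1⟩ := (h1.resolve_left (small l1 (by norm_num) (by norm_num))).resolve_left
      (small l1 (by norm_num) (by norm_num))
    obtain ⟨j', k2⟩ := (h2.resolve_left (small l2 (by norm_num) (by norm_num))).resolve_left
      (small l2 (by norm_num) (by norm_num))
    obtain rfl := tn_cop hb (by omega) (d1.trans k1) (d2.trans k2)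
    exact .inr (.inr ⟨j, key _ k1 k2⟩)
  · obtain ⟨x, hx⟩ := (hasOrd_congr e).1 h1
    have := (by decide : ∀ u ∈ [1, 2, 3, 5, 6, 7, 10, 11, 15, 19], u < 25) _ (j1_ord x)
    omega

end CfsgLib.RP
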