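import Mathlib
import Cfsg.Agent.Lib.RP.Lay

/-!
Recognition of the Ree components.
-/

set_option autoImplicit false
set_option linter.unusedSectionVars false
set_option linter.unusedVariables false
set_option linter.style.haveILetI false

namespace CfsgLib.RP

open Cfsg Subgroup CfsgLib.BG CfsgLib.CIT.App CfsgLib.Comp CfsgLib.SpecSq
open scoped commutatorElement MatrixGroups

variable {G : Type*} [Group G] [Finite G] {Γ : Type*} [Group Γ] [Finite Γ] {π : G →* Γ}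
  {k : ℕ} {m : Fin k → ℕ}

theorem cmp2_ar {X : Type*} [Group X] [Finite X] {p A B : ℕ} (hp : p.Prime)
    (H : ∀ k, HasOrd X k ↔ k ∣ p ∨ k ∣ A ∨ k ∣ B) (h3 : p < 5 ∨ 3 ∣ A ∨ 3 ∣ B) {a b c : ℕ} (ha : a.Prime)
    (hb : b.Prime) (hc : c.Prime) (ha5 : 5 ≤ a) (hb5 : 5 ≤ b) (hc5 : 5 ≤ c) (hab : a ≠ b) (hbc : b ≠ c)
    (hac : a ≠ c) (da : a ∣ Nat.card X) (db : b ∣ Nat.card X) (dc : c ∣ Nat.card X)
    (nab : ¬ HasOrd X (a * b)) (nbc : ¬ HasOrd X (b * c)) (nac : ¬ HasOrd X (a * c))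
    (n3a : ¬ HasOrd X (3 * a)) (n3b : ¬ HasOrd X (3 * b)) (n3c : ¬ HasOrd X (3 * c)) : False := by
  have k1 : ∀ {x : ℕ}, x.Prime → x ∣ Nat.card X → x = p ∨ x ∣ A ∨ x ∣ B := fun hx dx =>
    ((H _).1 (hasOrd_of_prime_dvd hx dx)).imp_left (Nat.prime_dvd_prime_iff_eq hx hp).1
  have k2 : ∀ {x y : ℕ}, x.Prime → y.Prime → x ≠ y → ¬ HasOrd X (x * y) →
      (x ∣ A → ¬ y ∣ A) ∧ (x ∣ B → ¬ y ∣ B) := fun hx hy hxy n =>
    have cop := (Nat.coprime_primes hx hy).2 hxy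
    ⟨fun h1 h2 => n ((H _).2 (.inr (.inl (cop.mul_dvd_of_dvd_of_dvd h1 h2)))),
      fun h1 h2 => n ((H _).2 (.inr (.inr (cop.mul_dvd_of_dvd_of_dvd h1 h2))))⟩
  have e1 := k1 ha da
  have e2 := k1 hb db
  have e3 := k1 hc dc
  have f1 := k2 ha hb hab nab
  have f2 := k2 hb hc hbc nbc
  have f3 := k2 ha hc hac nac
  have g1 := k2 Nat.prime_three ha (by omega) n3a
  have g2 := k2 Nat.prime_three hb (by omega) n3b
  have g3 := k2 Nat.prime_three hc (by omega) n3c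
  have p1 : a = p → ¬ b = p := fun x y => hab (x.trans y.symm)
  have p2 : b = p → ¬ c = p := fun x y => hbc (x.trans y.symm)
  have p3 : a = p → ¬ c = p := fun x y => hac (x.trans y.symm)
  have p4 : p < 5 → ¬ a = p ∧ ¬ b = p ∧ ¬ c = p := fun h =>
    ⟨fun x => h.not_ge (x ▸ ha5), fun x => h.not_ge (x ▸ hb5), fun x => h.not_ge (x ▸ hc5)⟩
  clear H k1 k2 hab hbc hac nab nbc nac n3a n3b n3c
  rcases h3 with h | h | h <;> rcases e1 with e1 | e1 | e1 <;> rcases e2 with e2 | e2 | e2 <;>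
    rcases e3 with e3 | e3 | e3 <;>
    first
      | exact (p4 h).1 e1 | exact (p4 h).2.1 e2 | exact (p4 h).2.2 e3
      | exact p1 e1 e2 | exact p2 e2 e3 | exact p3 e1 e3
      | exact f1.1 e1 e2 | exact f1.2 e1 e2 | exact f2.1 e2 e3 | exact f2.2 e2 e3 | exact f3.1 e1 e3
      | exact f3.2 e1 e3 | exact g1.1 h e1 | exact g1.2 h e1 | exact g2.1 h e2 | exact g2.2 h e2
      | exact g3.1 h e3 | exact g3.2 h e3

/-- `J₁`: `5` divides the order. `L₂(2^e)`: each of `a b c` divides `2^e - 1` or `2^e + 1`, two of them the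
same. `L₂(u)`, `u = p^e` odd: each of `a b c` divides `p`, `(u-1)/2` or `(u+1)/2`, no two the same; so
`p ≥ 5` and `3` divides `(u-1)/2` or `(u+1)/2`. -/
theorem cmp_ree (hF : fittingSubgroup Γ = ⊥) (h4 : ¬ HasOrd Γ (2 ^ 2)) {L : Subgroup Γ}
    (hL : IsComponent L) (h5 : ¬ 5 ∣ Nat.card L) {a b c : ℕ} (ha : a.Prime) (hb : b.Prime)
    (hc : c.Prime) (ha5 : 5 ≤ a) (hb5 : 5 ≤ b) (hc5 : 5 ≤ c) (hab : a ≠ b) (hbc : b ≠ c)
    (hac : a ≠ c) (da : a ∣ Nat.card L) (db : b ∣ Nat.card L) (dc : c ∣ Nat.card L)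
    (nab : ¬ HasOrd L (a * b)) (nbc : ¬ HasOrd L (b * c)) (nac : ¬ HasOrd L (a * c))
    (n3a : ¬ HasOrd L (3 * a)) (n3b : ¬ HasOrd L (3 * b)) (n3c : ¬ HasOrd L (3 * c)) :
    Lie.IsoRee L := by
  rcases comp_walter hF h4 hL with ⟨n, hn, F, _, _, hq, ⟨e⟩⟩ | ⟨F, _, _, h5', h8, ⟨e⟩⟩ | h | ⟨⟨e⟩⟩
  · exact (cmp2_ar Nat.prime_two (fun k => (hasOrd_congr e).trans (psl2_even_hasOrd (by omega) hq k))
      (.inl (by norm_num)) ha hb hc ha5 hb5 hc5 hab hbc hac da db dc nab nbc nac n3a n3b n3c).elim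
  · obtain ⟨p, _, n, hp, hq⟩ := FiniteField.card' F
    have hodd : Odd (Fintype.card F) := Nat.odd_iff.2 (by omega)
    refine (cmp2_ar hp (fun k => (hasOrd_congr e).trans (psl2_odd_hasOrd hp hq hodd k)) ?_
      ha hb hc ha5 hb5 hc5 hab hbc hac da db dc nab nbc nac n3a n3b n3c).elim
    by_cases h3 : 3 ∣ Fintype.card F
    · have := (Nat.prime_dvd_prime_iff_eq Nat.prime_three hp).1 (Nat.prime_three.dvd_of_dvd_pow (hq ▸ h3))
      exact .inl (by omega)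
    · refine .inr ?_
      generalize Fintype.card F = q at h3 h8
      obtain ⟨r, rfl⟩ : ∃ r, q = 2 * r + 1 := ⟨q / 2, by omega⟩
      rw [show (2 * r + 1 - 1) / 2 = r by omega, show (2 * r + 1 + 1) / 2 = r + 1 by omega]
      clear h8
      rcases (by omega : r % 3 = 0 ∨ r % 3 = 1 ∨ r % 3 = 2) with e | e | e
      exacts [.inl (by omega), (h3 (by omega)).elim, .inr (by omega)]
  · exact h
  · exact (h5 (by rw [Nat.card_congr e.toEquiv, J1.card_J1]; norm_num)).elim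

end CfsgLib.RP
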