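import Mathlib
import Cfsg.Agent.Lib.RP.Defs

/-!
Three pairwise non-adjacent primes.
-/

set_option autoImplicit false
set_option linter.unusedSectionVars false
set_option linter.unusedVariables false
set_option linter.style.haveILetI false

namespace CfsgLib.RP

open Cfsg Subgroup CfsgLib.BG CfsgLib.CIT.App CfsgLib.Comp CfsgLib.SpecSq
open scoped commutatorElement MatrixGroups

variable {G : Type*} [Group G] [Finite G] {Γ : Type*} [Group Γ] [Finite Γ] {π : G →* Γ}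
  {k : ℕ} {m : Fin k → ℕ}

/-- a minimal supplement is solvable -/
theorem coc_supp (M : Subgroup Γ) [M.Normal] (hM : Group.IsSolvable (Γ ⧸ M)) {N : Subgroup Γ}
    (hN : M ⊔ N = ⊤) : ∃ D ≤ N, Group.IsSolvable D ∧ M ⊔ D = ⊤ := by
  obtain ⟨D, ⟨h1, h2⟩, hmin⟩ := (wellFounded_lt (α := Subgroup Γ)).has_min {D | D ≤ N ∧ M ⊔ D = ⊤} ⟨N, le_rfl, hN⟩
  refine ⟨D, h1, ?_, h2⟩
  have hf : M.subgroupOf D ≤ frattini D := by
    refine le_iInf₂ fun K hK => ?_
    by_contra hn
    have e : M.subgroupOf D ⊔ K = ⊤ := hK.2 _ (right_lt_sup.2 hn)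
    have e2 : D ≤ M ⊔ K.map D.subtype := by
      conv_lhs => rw [← D.range_subtype, MonoidHom.range_eq_map, ← e, Subgroup.map_sup, subgroupOf_map_subtype]
      exact sup_le_sup_right inf_le_left _
    refine hmin (K.map D.subtype) ⟨(map_subtype_le K).trans h1,
      top_le_iff.1 (h2 ▸ sup_le le_sup_left e2)⟩ (lt_of_le_of_ne (map_subtype_le K) fun e3 => hK.1 ?_)
    rw [← comap_map_eq_self_of_injective D.subtype_injective K, e3]
    exact subgroupOf_self D
  haveI := solvableS hf (nilpotent_sol frattini_nilpotent)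
  exact solvable_of_ker_le_range (M.subgroupOf D).subtype ((QuotientGroup.mk' M).comp D.subtype) (by
    rw [range_subtype, ← MonoidHom.comap_ker, QuotientGroup.ker_mk']; rfl)

/-- `T` Sylow `t` in `M`, `Γ = M 𝒩(T)`; `D ≤ 𝒩(T)` minimal with `D ⊔ M = ⊤`; then `D ⊓ M` lies in the
Frattini subgroup of `D` (or: `D ⊓ M` is nilpotent by the Frattini argument), so `D` and `B = T ⊔ D` are
solvable, `M.index ∣ #D`; apply `three_primes_mem` to `B.comap π` (`comap_sol`). -/
theorem coc (hπ : Function.Surjective π) (hK : Group.IsSolvable π.ker) (M : Subgroup Γ) [M.Normal]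
    (hM : Group.IsSolvable (Γ ⧸ M)) {r s t : ℕ} (hr : r.Prime) (hs : s.Prime) (ht : t.Prime)
    (hrs : r ≠ s) (hrt : r ≠ t) (hst : s ≠ t) (dr : r ∣ Nat.card π.ker ∨ r ∣ M.index)
    (ds : s ∣ Nat.card π.ker ∨ s ∣ M.index) (dt : t ∣ Nat.card G) :
    HasOrd G (r * s) ∨ HasOrd G (r * t) ∨ HasOrd G (s * t) := by
  obtain ⟨T, hT⟩ := Sylow_exists ht M
  obtain ⟨D, h1, h2, h3⟩ := coc_supp M hM (N := 𝒩(T)) (by
    simpa using Frattini_arg ht (M := ⊤) ⟨le_top, by rw [normalizer_eq_top]⟩ hT)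
  have hB := comap_sol π hK (solvableY (Or.inl h1) h2 (pgp_sol hT.2.1))
  have k1 : ∀ {p : ℕ}, p ∣ Nat.card π.ker → p ∣ Nat.card ((D ⊔ T).comap π) := fun h =>
    h.trans (card_dvd_of_le (ker_le_comap π _))
  have k2 : ∀ {p : ℕ} {S : Subgroup Γ}, S ≤ D ⊔ T → p ∣ Nat.card S → p ∣ Nat.card ((D ⊔ T).comap π) :=
    fun h => dvd_card_of_cover (by rwa [map_comap_eq_self_of_surjective hπ])
  have k3 : ∀ {p : ℕ}, p ∣ M.index → p ∣ Nat.card ((D ⊔ T).comap π) := fun h => k2 le_sup_left (by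
    rw [← relIndex_top_right, ← h3, relIndex_sup_left] at h
    exact h.trans (relIndex_dvd_card M D))
  have k4 : t ∣ Nat.card ((D ⊔ T).comap π) := by
    rw [← π.ker.card_mul_index, index_ker, MonoidHom.range_eq_top.2 hπ, card_top, ← M.card_mul_index] at dt
    rcases (ht.dvd_mul).1 dt with e | e
    · exact k1 e
    rcases (ht.dvd_mul).1 e with e | e
    · refine k2 le_sup_right ?_
      rw [← relIndex_bot_left, ← relIndex_mul_relIndex ⊥ T M bot_le hT.1, relIndex_bot_left] at e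
      exact ((ht.dvd_mul).1 e).resolve_right (Sylow_index ht hT)
    · exact k3 e
  rcases three_primes_mem hB hr hs ht hrs hrt hst (dr.elim k1 k3) (ds.elim k1 k3) k4 with
    ⟨g, -, e⟩ | ⟨g, -, e⟩ | ⟨g, -, e⟩
  exacts [Or.inl ⟨g, e⟩, Or.inr (Or.inl ⟨g, e⟩), Or.inr (Or.inr ⟨g, e⟩)]

end CfsgLib.RP
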