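import Mathlib
import Cfsg.Agent.Lib.RP.Defs

/-!
Reduction to a minimal normal kernel.
-/

set_option autoImplicit false
set_option linter.unusedSectionVars false
set_option linter.unusedVariables false
set_option linter.style.haveILetI false

namespace CfsgLib.RP

open Cfsg Subgroup CfsgLib.BG CfsgLib.CIT.App CfsgLib.Comp CfsgLib.SpecSq
open scoped commutatorElement MatrixGroups

variable {G : Type*} [Group G] [Finite G] {Γ : Type*} [Group Γ] [Finite Γ] {π : G →* Γ}
  {k : ℕ} {m : Fin k → ℕ}

/-- `N` maximal among the normal subgroups of `G` properly contained in `π.ker`; `π' = QuotientGroup.lift`;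
its kernel is a solvable minimal normal subgroup -/
theorem ker_red (hπ : Function.Surjective π) (hK : Group.IsSolvable π.ker) (hne : π.ker ≠ ⊥) :
    ∃ (N : Subgroup G) (_ : N.Normal) (π' : G ⧸ N →* Γ) (r : ℕ), Cov π' r := by
  obtain ⟨N, ⟨hN, hlt⟩, hmax⟩ := Set.Finite.exists_maximal (Set.toFinite {N : Subgroup G | N.Normal ∧ N < π.ker})
    ⟨⊥, inferInstance, bot_lt_iff_ne_bot.2 hne⟩
  have e := QuotientGroup.ker_lift N π hlt.le
  have ne : (QuotientGroup.lift N π hlt.le).ker ≠ ⊥ := by
    rw [e, Ne, Subgroup.map_eq_bot_iff, QuotientGroup.ker_mk']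
    exact hlt.not_ge
  have mn : ∀ W : Subgroup (G ⧸ N), W.Normal → W ≤ (QuotientGroup.lift N π hlt.le).ker →
      W = ⊥ ∨ W = (QuotientGroup.lift N π hlt.le).ker := fun W hW hle => by
    have s := QuotientGroup.mk'_surjective N
    have l1 : W.comap (QuotientGroup.mk' N) ≤ π.ker := fun g hg => hle hg
    have l2 : N ≤ W.comap (QuotientGroup.mk' N) := QuotientGroup.le_comap_mk' N W
    rw [← map_comap_eq_self_of_surjective s W, e]
    rcases l1.lt_or_eq with h | h
    · left
      rw [Subgroup.map_eq_bot_iff, QuotientGroup.ker_mk']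
      exact hmax ⟨hW.comap _, h⟩ l2
    · exact Or.inr (by rw [h])
  have : Group.IsSolvable (QuotientGroup.lift N π hlt.le).ker := by
    rw [e]
    exact Group.isSolvable_of_surjective (MonoidHom.subgroupMap_surjective _ _)
  obtain ⟨r, hr, ha⟩ := Core.isElementaryAbelian_of_minimal_normal ne mn
  exact ⟨N, hN, _, r, hr, QuotientGroup.lift_surjective_of_surjective N π hπ hlt.le, ne, ha, mn⟩

end CfsgLib.RP
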