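import Mathlib
import Cfsg.Agent.Lib.RP.Defs
import Cfsg.Agent.S0626

/-!
No quadratic action.
-/

set_option autoImplicit false
set_option linter.unusedSectionVars false
set_option linter.unusedVariables false
set_option linter.style.haveILetI false

namespace CfsgLib.RP

open Cfsg Subgroup CfsgLib.BG CfsgLib.CIT.App CfsgLib.Comp CfsgLib.SpecSq
open scoped commutatorElement MatrixGroups

variable {G : Type*} [Group G] [Finite G] {Γ : Type*} [Group Γ] [Finite Γ] {π : G →* Γ}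
  {k : ℕ} {m : Fin k → ℕ}

/-- Sylow `2`-subgroups are abelian (`abelem_two`), so S0626 (first clause, `V = ker`) puts `z` into the
preimage `D` of `O₃(G / 𝒞(ker))`; `Simp.cover` gives `S ≤ D.map π`; `ker ≤ 𝒞(ker) ≤ D`, so
`A = S.comap π ≤ D`; `A = ⁅A, A⁆ ⊔ ker` has perfect image in the `3`-group `D / 𝒞(ker)` -/
theorem Cov.nq (h : Cov π 3) (h4 : ¬ HasOrd G (2 ^ 2)) {S : Subgroup Γ} (hS : Simp S)
    (hd : ⁅S, S⁆ = S) (hn : ¬ S.comap π ≤ 𝒞(π.ker)) {z : G} (hz : π z ∈ S) (h1 : π z ≠ 1) :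
    ⁅⁅π.ker, zpowers z⁆, zpowers z⁆ ≠ ⊥ := by
  intro e
  haveI : Fact (Nat.Prime 3) := ⟨Nat.prime_three⟩
  have st := (Cfsg.Agent.S0626.result (G := G) (p := 3) (by norm_num) fun T =>
    (abelem_two h4 (pi_pgroup Nat.prime_two T.isPGroup' rfl)).1).1 π.ker h.ab z e
  let f := QuotientGroup.mk' (centralizer (π.ker : Set G))
  have kC : ∀ x ∈ π.ker, f x = 1 := fun x hx =>
    (QuotientGroup.eq_one_iff x).2 (haveI := h.ab.1; le_centralizer π.ker hx)
  have key : ∀ {K : Subgroup G}, S ≤ K.map π → (S.comap π).map f ≤ K.map f := by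
    rintro K hK _ ⟨a, ha, rfl⟩
    obtain ⟨d, hd, e1⟩ := hK ha
    refine ⟨d, hd, ?_⟩
    have := kC (d⁻¹ * a) (by rw [MonoidHom.mem_ker, map_mul, map_inv, e1, inv_mul_cancel])
    rwa [map_mul, map_inv, inv_mul_eq_one] at this
  have h2 : (S.comap π).map f ≤ pCore 3 _ := (key (hS.cover (A := ⊤) (C := (pCore 3 _).comap f)
    (by rw [map_top_of_surjective π h.surj]; exact le_top) (normalizer_eq_top _).ge st hz h1)).trans (map_comap_le _ _)
  have h3 := key (cover_der hd (map_comap_eq_self_of_surjective h.surj S).ge)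
  rw [map_commutator] at h3
  haveI := ((LAE.isPGroup_pCore (p := 3)).to_le h2).isNilpotent
  refine hn fun a ha => (QuotientGroup.eq_one_iff a).1 ?_
  exact mem_bot.1 ((Core.eq_bot_of_le_commutator_of_isNilpotent le_rfl h3).le (mem_map_of_mem f ha))

end CfsgLib.RP
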