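import Mathlib
import Cfsg.Agent.Lib.RP.Defs

/-!
The norm of a product of two elements of order nine.
-/

set_option autoImplicit false
set_option linter.unusedSectionVars false
set_option linter.unusedVariables false
set_option linter.style.haveILetI false

namespace CfsgLib.RP

open Cfsg Subgroup CfsgLib.BG CfsgLib.CIT.App CfsgLib.Comp CfsgLib.SpecSq
open scoped commutatorElement MatrixGroups

variable {G : Type*} [Group G] [Finite G] {Γ : Type*} [Group Γ] [Finite Γ] {π : G →* Γ}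
  {k : ℕ} {m : Fin k → ℕ}

theorem lin_core {R : Type*} [CommRing R] (h3 : (3 : R) = 0) (X Y P Q : R) (hP : P * X ^ 5 = 0)
    (hQ : Q * Y ^ 5 = 0) :
    P * Q * ∑ j ∈ Finset.range 9, ((X + 1) * (Y + 1)) ^ j = P * X ^ 4 * (Q * Y ^ 4) ∧
      X ^ 9 = (X + 1) ^ 9 - 1 ∧ X ^ 6 = ((X + 1) ^ 3 - 1) ^ 2 := by
  refine ⟨?_, ?_, ?_⟩
  · simp only [Finset.sum_range_succ, Finset.sum_range_zero]
    linear_combination (Q * (84*X^0*Y^0 + 636*X^0*Y^1 + 2109*X^0*Y^2 + 4001*X^0*Y^3 + 4750*X^0*Y^4 +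
      3614*X^0*Y^5 + 1721*X^0*Y^6 + 469*X^0*Y^7 + 56*X^0*Y^8 + 36*X^1*Y^0 + 279*X^1*Y^1 + 946*X^1*Y^2 +
      1833*X^1*Y^3 + 2220*X^1*Y^4 + 1721*X^1*Y^5 + 834*X^1*Y^6 + 231*X^1*Y^7 + 28*X^1*Y^8 + 9*X^2*Y^0 +
      71*X^2*Y^1 + 245*X^2*Y^2 + 483*X^2*Y^3 + 595*X^2*Y^4 + 469*X^2*Y^5 + 231*X^2*Y^6 + 65*X^2*Y^7 +
      8*X^2*Y^8 + 1*X^3*Y^0 + 8*X^3*Y^1 + 28*X^3*Y^2 + 56*X^3*Y^3 + 70*X^3*Y^4 + 56*X^3*Y^5 + 28*X^3*Y^6 +
      8*X^3*Y^7 + 1*X^3*Y^8)) * hP + (P * (84*X^0*Y^0 + 36*X^0*Y^1 + 9*X^0*Y^2 + 1*X^0*Y^3 + 636*X^1*Y^0 +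
      279*X^1*Y^1 + 71*X^1*Y^2 + 8*X^1*Y^3 + 2109*X^2*Y^0 + 946*X^2*Y^1 + 245*X^2*Y^2 + 28*X^2*Y^3 +
      4001*X^3*Y^0 + 1833*X^3*Y^1 + 483*X^3*Y^2 + 56*X^3*Y^3 + 4750*X^4*Y^0 + 2220*X^4*Y^1 + 595*X^4*Y^2 +
      70*X^4*Y^3)) * hQ + (P * Q * (3*X^0*Y^0 + 12*X^0*Y^1 + 28*X^0*Y^2 + 42*X^0*Y^3 + 42*X^0*Y^4 +
      12*X^1*Y^0 + 68*X^1*Y^1 + 182*X^1*Y^2 + 294*X^1*Y^3 + 308*X^1*Y^4 + 28*X^2*Y^0 + 182*X^2*Y^1 +
      532*X^2*Y^2 + 910*X^2*Y^3 + 992*X^2*Y^4 + 42*X^3*Y^0 + 294*X^3*Y^1 + 910*X^3*Y^2 + 1626*X^3*Y^3 +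
      1833*X^3*Y^4 + 42*X^4*Y^0 + 308*X^4*Y^1 + 992*X^4*Y^2 + 1833*X^4*Y^3 + 2125*X^4*Y^4)) * h3
  · linear_combination (-(3*X + 12*X^2 + 28*X^3 + 42*X^4 + 42*X^5 + 28*X^6 + 12*X^7 + 3*X^8)) * h3
  · linear_combination (-(2*X^5 + 5*X^4 + 6*X^3 + 3*X^2)) * h3

theorem lin_core' {R : Type*} [Ring R] (h3 : (3 : R) = 0) {X Y : R} (c : Commute X Y) (a b : ℕ) :
    (X ^ (a + 5) = 0 → Y ^ (b + 5) = 0 →
      X ^ a * Y ^ b * ∑ j ∈ Finset.range 9, ((X + 1) * (Y + 1)) ^ j = X ^ (a + 4) * Y ^ (b + 4)) ∧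
      X ^ 9 = (X + 1) ^ 9 - 1 ∧ X ^ 6 = ((X + 1) ^ 3 - 1) ^ 2 := by
  have hc : ∀ x ∈ ({X, Y} : Set R), ∀ y ∈ ({X, Y} : Set R), x * y = y * x := by
    rintro x (rfl | rfl) y (rfl | rfl)
    exacts [rfl, c.eq, c.symm.eq, rfl]
  have := Subring.isMulCommutative_closure hc
  letI : CommRing (Subring.closure ({X, Y} : Set R)) :=
    { (inferInstance : Ring (Subring.closure ({X, Y} : Set R))) with
      mul_comm := fun x y => this.is_comm.comm x y }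
  let x : Subring.closure ({X, Y} : Set R) := ⟨X, Subring.subset_closure (by simp)⟩
  let y : Subring.closure ({X, Y} : Set R) := ⟨Y, Subring.subset_closure (by simp)⟩
  let f := (Subring.closure ({X, Y} : Set R)).subtype
  have ex : f x = X := rfl
  have ey : f y = Y := rfl
  have hf : Function.Injective f := Subring.subtype_injective _
  have h3' : (3 : Subring.closure ({X, Y} : Set R)) = 0 := hf (by rw [map_ofNat, h3, map_zero])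
  obtain ⟨-, k2, k3⟩ := lin_core h3' x y 0 0 (zero_mul _) (zero_mul _)
  refine ⟨fun h1 h2 => ?_, ?_, ?_⟩
  · have k1 := congrArg f (lin_core h3' x y (x ^ a) (y ^ b)
      (hf (by rw [← pow_add, map_pow, ex, h1, map_zero])) (hf (by rw [← pow_add, map_pow, ey, h2, map_zero]))).1
    simp only [map_mul, map_pow, map_sum, map_add, map_one, ex, ey] at k1
    rw [k1, pow_add, pow_add]
  · simpa only [map_pow, map_sub, map_add, map_one, ex] using congrArg f k2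
  · simpa only [map_pow, map_sub, map_add, map_one, ex] using congrArg f k3

theorem lin_max {R : Type*} [Ring R] {X : R} (h9 : X ^ 9 = 0) (h6 : X ^ 6 ≠ 0) :
    ∃ a, X ^ (a + 5) = 0 ∧ X ^ (a + 4) ≠ 0 := by
  by_cases h7 : X ^ 7 = 0
  · exact ⟨2, h7, h6⟩
  by_cases h8 : X ^ 8 = 0
  · exact ⟨3, h8, h7⟩
  · exact ⟨4, h9, h8⟩

/-- `X = ρ u - 1`, `Y = ρ v - 1` commute, `X ^ 9 = 0 = Y ^ 9`, `X ^ 6 = (ρ u ^ 3 - 1) ^ 2 ≠ 0 ≠ Y ^ 6`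
(characteristic `3`). Let `a`, `b ≥ 6` be maximal with `X ^ a ≠ 0 ≠ Y ^ b`. Claim `X ^ a * Y ^ b ≠ 0`: else
`W = {w | ∀ s ∈ S, ρ s * X ^ a * ρ s⁻¹ kills w}` contains the nonzero `range (Y ^ b)` and is invariant
(`dec`), so `W = ⊤`, `X ^ a = 0`. The sum is `(ρ u * ρ v - 1) ^ 8 = (X * (1 + Y) + Y) ^ 8`
(`(T - 1) ^ 8 = ∑ T ^ j` over `ZMod 3`); multiplied by `X ^ (a - 4) * Y ^ (b - 4)` only the middle term of
`Commute.add_pow` survives: `70 * X ^ a * Y ^ b = X ^ a * Y ^ b`. -/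
theorem lin27 {H M : Type*} [Group H] [AddCommGroup M] [Module (ZMod 3) M]
    (ρ : H →* Module.End (ZMod 3) M)
    (irr : ∀ W : Submodule (ZMod 3) M, (∀ g, ∀ w ∈ W, ρ g w ∈ W) → W = ⊥ ∨ W = ⊤) (S : Subgroup H)
    (dec : ∀ g, ∃ s ∈ S, ∃ c, (∀ s' ∈ S, Commute (ρ c) (ρ s')) ∧ ρ g = ρ s * ρ c) {u v : H}
    (hu : u ∈ S) (hv : ∀ s ∈ S, Commute (ρ v) (ρ s)) (hu9 : ρ u ^ 9 = 1) (hv9 : ρ v ^ 9 = 1)
    (hu' : (ρ u ^ 3 - 1) ^ 2 ≠ 0) (hv' : (ρ v ^ 3 - 1) ^ 2 ≠ 0) :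
    ∑ j ∈ Finset.range 9, (ρ u * ρ v) ^ j ≠ 0 := by
  have h3 : (3 : Module.End (ZMod 3) M) = 0 := by
    have : (3 : Module.End (ZMod 3) M) = algebraMap (ZMod 3) _ 3 := (map_ofNat _ 3).symm
    rw [this, show (3 : ZMod 3) = 0 from rfl, map_zero]
  obtain ⟨X, hX⟩ : ∃ X, ρ u = X + 1 := ⟨ρ u - 1, (sub_add_cancel _ _).symm⟩
  obtain ⟨Y, hY⟩ : ∃ Y, ρ v = Y + 1 := ⟨ρ v - 1, (sub_add_cancel _ _).symm⟩
  have eX : X = ρ u - 1 := by rw [hX, add_sub_cancel_right]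
  have eY : Y = ρ v - 1 := by rw [hY, add_sub_cancel_right]
  have cY : ∀ s ∈ S, Commute Y (ρ s) := fun s hs => eY ▸ (hv s hs).sub_left (Commute.one_left _)
  have c : Commute X Y := eX ▸ ((cY u hu).sub_right (Commute.one_right _)).symm
  obtain ⟨-, x9, x6⟩ := lin_core' h3 c 0 0
  obtain ⟨-, y9, y6⟩ := lin_core' h3 c.symm 0 0
  rw [← hX] at x9 x6
  rw [← hY] at y9 y6
  rw [hu9, sub_self] at x9
  rw [hv9, sub_self] at y9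
  obtain ⟨a, a1, a2⟩ := lin_max x9 (x6 ▸ hu')
  obtain ⟨b, b1, b2⟩ := lin_max y9 (y6 ▸ hv')
  intro h0
  have h1 := (lin_core' h3 c a b).1 a1 b1
  rw [← hX, ← hY, h0, mul_zero] at h1
  have cP : ∀ c, (∀ s' ∈ S, Commute (ρ c) (ρ s')) → Commute (ρ c) (X ^ (a + 4)) := fun c hc =>
    (eX ▸ (hc u hu).sub_right (Commute.one_right _)).pow_right _
  generalize X ^ (a + 4) = P at a2 h1 cP
  have cQ : ∀ s ∈ S, Commute (Y ^ (b + 4)) (ρ s) := fun s hs => (cY s hs).pow_left _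
  generalize Y ^ (b + 4) = Q at b2 h1 cQ
  let W : Submodule (ZMod 3) M := ⨅ s : S, LinearMap.ker (P * ρ s)
  have mW : ∀ w, w ∈ W ↔ ∀ s ∈ S, P (ρ s w) = 0 := fun w => by
    simp only [W, Submodule.mem_iInf, LinearMap.mem_ker, Module.End.mul_apply, Subtype.forall]
  rcases irr W (fun g w hw => (mW _).2 fun s' hs' => by
    obtain ⟨s, hs, c, hc, e⟩ := dec g
    have e1 : P * (ρ s' * (ρ s * ρ c)) = ρ c * (P * ρ (s' * s)) := by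
      rw [← mul_assoc (ρ s'), ← map_mul, ← (hc _ (S.mul_mem hs' hs)).eq, ← mul_assoc, ← (cP c hc).eq, mul_assoc]
    have e2 := LinearMap.congr_fun e1 w
    simp only [Module.End.mul_apply] at e2
    rw [e, Module.End.mul_apply, e2, (mW w).1 hw _ (S.mul_mem hs' hs), map_zero]) with h | h
  · refine b2 (LinearMap.ext fun w => ?_)
    have : Q w ∈ W := (mW _).2 fun s hs => by
      have e1 : P * (ρ s * Q) = 0 := by rw [← (cQ s hs).eq, ← mul_assoc, ← h1, zero_mul]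
      exact LinearMap.congr_fun e1 w
    rwa [h, Submodule.mem_bot] at this
  · refine a2 (LinearMap.ext fun w => ?_)
    simpa using (mW w).1 (h ▸ Submodule.mem_top) 1 S.one_mem

end CfsgLib.RP
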