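import Mathlib
import Cfsg.Agent.Lib.RP.Kq
import Cfsg.Agent.Lib.RP.Lin

/-!
Two factors acting on a kernel of exponent three.
-/

set_option autoImplicit false
set_option linter.unusedSectionVars false
set_option linter.unusedVariables false
set_option linter.style.haveILetI false

namespace CfsgLib.RP

open Cfsg Subgroup CfsgLib.BG CfsgLib.CIT.App CfsgLib.Comp CfsgLib.SpecSq
open scoped commutatorElement MatrixGroups

variable {G : Type*} [Group G] [Finite G] {Γ : Type*} [Group Γ] [Finite Γ] {π : G →* Γ}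
  {k : ℕ} {m : Fin k → ℕ}

open CfsgLib.PLocal in
theorem ker3_quad {V : Subgroup G} {p : ℕ} {hV : IsElementaryAbelian p V} {ρ : G →* Module.End (ZMod p) (ElemMod hV)}
    (hρ : ∀ g x, (ρ g x).toG = g * x.toG * g⁻¹) {z : G} (h : (ρ z - 1) ^ 2 = 0) :
    ⁅⁅V, zpowers z⁆, zpowers z⁆ = ⊥ := by
  rw [commutator_eq_bot_iff_le_centralizer, Subgroup.commutator_comm, commutator_le]
  intro g hg v hv
  obtain ⟨n, rfl⟩ := (mem_powers_iff_mem_zpowers.2 hg : g ∈ Submonoid.powers z)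
  have h1 : (ρ z - 1) * (ρ z ^ n - 1) = 0 := by rw [← mul_geom_sum, ← mul_assoc, ← pow_two, h, zero_mul]
  have h2 := LinearMap.congr_fun h1 (ElemMod.ofG hV v hv)
  rw [Module.End.mul_apply, LinearMap.sub_apply, Module.End.one_apply, LinearMap.zero_apply, sub_eq_zero,
    ← ElemMod.toG_inj, hρ, LinearMap.sub_apply, Module.End.one_apply, ElemMod.toG_sub, ← map_pow, hρ,
    ElemMod.toG_ofG, mul_inv_eq_iff_eq_mul] at h2
  rintro _ ⟨k, rfl⟩
  exact (show Commute z ⁅z ^ n, v⁆ from h2).zpow_left k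

/-- `ρ` = conjugation action of `G` on `Additive ker` (a `ZMod 3`-module; `ρ g` depends only on `π g`),
`lin27` with `S.comap π` and lifts `u'`, `v'` (`Cov.nq` for `u' ^ 3`, `v' ^ 3`). With `g = u' * v'`:
`(w * g) ^ 9 = N(w) * g ^ 9`, so some `h` with `π h = u * v` has `h ^ 9 ≠ 1`; `h ^ 9 ∈ ker`, `h ^ 27 = 1`. -/
theorem Cov.h27 (h : Cov π 3) (h4 : ¬ HasOrd G (2 ^ 2)) {S T : Subgroup Γ} (hS : Simp S)
    (dS : ⁅S, S⁆ = S) (hT : Simp T) (dT : ⁅T, T⁆ = T) (hST : T ≤ 𝒞(S)) (dec : ∀ g, g ∈ S ⊔ 𝒞(S))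
    (nS : ¬ S.comap π ≤ 𝒞(π.ker)) (nT : ¬ T.comap π ≤ 𝒞(π.ker)) {u v : Γ} (hu : u ∈ S)
    (hv : v ∈ T) (ou : orderOf u = 9) (ov : orderOf v = 9) : HasOrd G 27 := by
  have hc : ∀ a ∈ π.ker, ∀ b ∈ π.ker, a * b = b * a := fun a ha b hb => PLocal.elemAb_comm h.ab ha hb
  obtain ⟨ρ, hρ⟩ : ∃ ρ : G →* Module.End (ZMod 3) (PLocal.ElemMod h.ab),
      ∀ g x, (ρ g x).toG = g * x.toG * g⁻¹ :=
    ⟨(PLocal.ElemMod.rep h.ab (H := ⊤) le_normalizer_of_normal).comp topEquiv.symm.toMonoidHom, fun _ _ => rfl⟩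
  have k1 : ∀ g ∈ π.ker, ρ g = 1 := fun g hg => LinearMap.ext fun x => PLocal.ElemMod.toG_injective (by
    rw [hρ, hc g hg _ x.toG_mem, mul_inv_cancel_right]; rfl)
  have k2 : ∀ a b, π a = π b → ρ a = ρ b := fun a b e => by
    have := k1 (b⁻¹ * a) (by rw [MonoidHom.mem_ker, map_mul, map_inv, e, inv_mul_cancel])
    rw [← mul_inv_cancel_left b a, map_mul, this, mul_one]
  have k3 : ∀ c, π c ∈ 𝒞(S) → ∀ s ∈ S.comap π, Commute (ρ c) (ρ s) := fun c hc s hs => by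
    rw [Commute, SemiconjBy, ← map_mul, ← map_mul]
    exact k2 _ _ (by rw [map_mul, map_mul, hc _ hs])
  obtain ⟨u, rfl⟩ := h.surj u
  obtain ⟨v, rfl⟩ := h.surj v
  have k4 : ∀ x, orderOf (π x) = 9 → x ^ 9 ∈ π.ker ∧ π (x ^ 3) ≠ 1 := fun x e =>
    ⟨by rw [MonoidHom.mem_ker, map_pow, ← e, pow_orderOf_eq_one], fun e' => by
      have := orderOf_dvd_of_pow_eq_one ((map_pow π x 3).symm.trans e')
      rw [e] at this
      exact absurd this (by decide)⟩
  have key := lin27 ρ (fun W hW => by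
      rcases h.min (PLocal.ElemMod.toSubgroup W) ⟨by
        rintro _ ⟨x, hx, rfl⟩ g
        exact ⟨_, hW g x hx, hρ g x⟩⟩ (PLocal.ElemMod.toSubgroup_le W) with e | e
      · exact .inl (eq_bot_iff.2 fun x hx => (Submodule.mem_bot _).2 (PLocal.ElemMod.toG_eq_one.1
          (mem_bot.1 (e ▸ PLocal.ElemMod.toG_mem_toSubgroup.2 hx))))
      · exact .inr (eq_top_iff.2 fun x _ => PLocal.ElemMod.toG_mem_toSubgroup.1 (e.ge x.toG_mem)))
    (S.comap π) (fun g => by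
      obtain ⟨s, hs, c, hc, e⟩ := (Core.mem_sup_of_le_normalizer_left (centralizer_le_normalizer _)).1 (dec (π g))
      obtain ⟨s, rfl⟩ := h.surj s
      exact ⟨s, hs, s⁻¹ * g, k3 _ (by rwa [map_mul, map_inv, ← e, inv_mul_cancel_left]), by
        rw [← map_mul, mul_inv_cancel_left]⟩) (u := u) (v := v) hu (k3 v (hST hv))
    (by rw [← map_pow, k1 _ (k4 u ou).1]) (by rw [← map_pow, k1 _ (k4 v ov).1])
    (fun e => h.nq h4 hS dS nS (z := u ^ 3) (by rw [map_pow]; exact pow_mem hu 3) (k4 u ou).2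
      (ker3_quad hρ (by rwa [map_pow])))
    (fun e => h.nq h4 hT dT nT (z := v ^ 3) (by rw [map_pow]; exact pow_mem hv 3) (k4 v ov).2
      (ker3_quad hρ (by rwa [map_pow])))
  rw [← map_mul] at key
  obtain ⟨w, hw⟩ : ∃ w, (∑ j ∈ Finset.range 9, ρ (u * v) ^ j) w ≠ 0 := by
    by_contra h2
    push Not at h2
    exact key (LinearMap.ext h2)
  have k5 : (u * v) ^ 9 ∈ π.ker := by
    rw [MonoidHom.mem_ker, map_pow, map_mul, (show Commute (π u) (π v) from hST hv _ hu).mul_pow, ← map_pow,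
      ← map_pow, (k4 u ou).1, (k4 v ov).1, mul_one]
  have k6 : ∀ N, (w.toG * (u * v)) ^ N = ((∑ j ∈ Finset.range N, ρ (u * v) ^ j) w).toG * (u * v) ^ N := by
    intro N
    induction N with
    | zero => simp [PLocal.ElemMod.toG_zero]
    | succ N ih =>
      rw [pow_succ, ih, Finset.sum_range_succ, LinearMap.add_apply, PLocal.ElemMod.toG_add, ← map_pow, hρ, pow_succ]
      group
  have k7 : ∀ x : G, x ^ 9 ∈ π.ker → x ^ 9 ≠ 1 → HasOrd G 27 := fun x h1 h2 =>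
    haveI := Fact.mk Nat.prime_three
    ⟨x, orderOf_eq_prime_pow (p := 3) (n := 2) h2 (by rw [pow_succ, pow_mul]; exact h.ab.2 _ h1)⟩
  by_cases e : (u * v) ^ 9 = 1
  · have := k6 9
    rw [e, mul_one] at this
    exact k7 _ (this ▸ PLocal.ElemMod.toG_mem _) (this ▸ fun e' => hw (PLocal.ElemMod.toG_eq_one.1 e'))
  · exact k7 _ k5 e

end CfsgLib.RP
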