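import Mathlib
import Cfsg.Agent.Lib.RP.Defs

/-!
Fixed points on the kernel.
-/

set_option autoImplicit false
set_option Elab.async false
set_option linter.unusedSectionVars false
set_option linter.unusedVariables false
set_option linter.style.haveILetI false

namespace CfsgLib.RP

open Cfsg Subgroup CfsgLib.BG CfsgLib.CIT.App CfsgLib.Comp CfsgLib.SpecSq
open scoped commutatorElement MatrixGroups

variable {G : Type*} [Group G] [Finite G] {Γ : Type*} [Group Γ] [Finite Γ] {π : G →* Γ}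
  {k : ℕ} {m : Fin k → ℕ}

theorem Cov.kera_triv {r t : ℕ} (h : Cov π r) (htr : t ≠ r) {B : Subgroup G} (hB : IsPiSubgroup {t} B)
    {b : G} (hb : b ∈ B) (e : π b = 1) : b = 1 :=
  mem_bot.1 (coprime_TIg (pgp_coprime_of_ne hB (abelem_pgroup h.prime h.ab) htr) ▸
    (⟨hb, e⟩ : b ∈ B ⊓ π.ker))

theorem kera_pgp {s e : ℕ} (hs : s.Prime) {y : G} (h : y ^ s ^ e = 1) : IsPiSubgroup {s} (zpowers y) :=
  fun p hp hd => by
    rw [Nat.card_zpowers] at hd
    exact (Nat.prime_dvd_prime_iff_eq hp hs).1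
      (hp.dvd_of_dvd_pow (hd.trans (orderOf_dvd_of_pow_eq_one h)))

theorem fx_of_cent {S : Subgroup Γ} {x : Γ} (hx : x ∈ S) (h : S.comap π ≤ 𝒞(π.ker)) : Fx π S x := by
  intro W h1 h2 _
  have : W ≤ 𝒞((zpowers x).comap π) := cents_iff.2 fun w hw g hg =>
    h (comap_mono (zpowers_le.2 hx) hg) w (h1 hw)
  rwa [inf_eq_left.2 this]

/-- lift `Q`, `x` to `Q'`, `x'` in `S.comap π` (`lift_norm`, `lift_pow`; `x' ^ s ∈ ker` has order a power of
`s`, so `x' ^ s = 1`; `π` is injective on `Q'`, so `x'` is semiregular on `Q'`). `(zpowers x).comap π =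
ker ⊔ zpowers x'` and `ker` is abelian. If `W ⊓ 𝒞(zpowers x') = ⊥`, `frob_cents` gives `Q' ≤ 𝒞(W)`,
`Simp.cover_cent` gives `S ≤ (S.comap π ⊓ 𝒞(W)).map π`, so `x' ∈ 𝒞(W) ⊔ ker = 𝒞(W)`, `W = ⊥`. -/
theorem Cov.fx {r t : ℕ} (h : Cov π r) {S : Subgroup Γ} (hS : Simp S) {x : Γ} (ht : t.Prime)
    (htr : t ≠ r) (hx : (orderOf x).Prime) (hxr : orderOf x ≠ r) (hF : Fp t S x) : Fx π S x := by
  obtain ⟨hxS, Q, hQ, hQ1, hQS, hxQ, hreg⟩ := hF
  intro W h1 h2 hn hfix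
  have hA : S ≤ (S.comap π).map π := (map_comap_eq_self_of_surjective h.surj S).ge
  obtain ⟨Q', k1, k2, rfl, x', k4, k5, rfl⟩ := lift_norm π ht hQ (hQS.trans hA) (hA hxS) hxQ
  obtain ⟨y, hy, e, n, hn1⟩ := lift_pow π (a := 1) hx x' (by rw [pow_one, pow_orderOf_eq_one])
  have yp := kera_pgp hx hn1
  have yS : zpowers y ≤ S.comap π := zpowers_le.2 (zpowers_le.2 k4 hy)
  have yQ : zpowers y ≤ 𝒩(Q') := zpowers_le.2 (zpowers_le.2 k5 hy)
  have kW : π.ker ≤ 𝒞(W) := cents_iff.2 fun v hv w hw => (cents_iff.1 (abelem_cents h.ab)) v hv w (h1 hw)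
  have hW : IsPiSubgroup {r} W := pigroupS h1 (abelem_pgroup h.prime h.ab)
  have hreg' : Semiregular Q' (zpowers y) := fun u hu u1 => by
    refine eq_bot_iff.2 fun c hc => mem_bot.2 (h.kera_triv htr k2 hc.1 ?_)
    have m : π u ∈ zpowers (π x') := by
      rw [← e, ← MonoidHom.map_zpowers]
      exact mem_map_of_mem π hu
    have := hreg _ m fun e1 => u1 (h.kera_triv hxr yp hu e1)
    refine mem_bot.1 (this ▸ (⟨mem_map_of_mem π hc.1, mem_cent1.2 ?_⟩ : π c ∈ Q'.map π ⊓ 𝒞[π u]))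
    rw [← map_mul, ← map_mul, mem_cent1.1 hc.2]
  have hfix' : W ⊓ 𝒞(zpowers y) = ⊥ := by
    refine eq_bot_iff.2 fun w hw => hfix.le ⟨hw.1, mem_cent_iff.2 fun g hg => ?_⟩
    have m : π g ∈ (zpowers y).map π := by
      rw [MonoidHom.map_zpowers, e]
      exact hg
    obtain ⟨u, hu, e1⟩ := m
    have m2 : u⁻¹ * g ∈ π.ker := by rw [MonoidHom.mem_ker, map_mul, map_inv, e1, inv_mul_cancel]
    have c1 : Commute u w := mem_cent_iff.1 hw.2 u hu
    have c2 : Commute (u⁻¹ * g) w := (mem_cent_iff.1 (kW m2) w hw.1).symm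
    simpa using (c1.mul_left c2).eq
  have hc := frob_cents h.prime hW yQ hreg' (k1.trans hn) (yS.trans hn)
    (pgp_coprime_of_ne hW k2 htr.symm) (pgp_coprime_of_ne hW yp hxr.symm) hfix'
  obtain ⟨⟨_, c, hc1, rfl⟩, c1⟩ := ne_bot_iff_exists_ne_one.1 hQ1
  obtain ⟨a, ha, e1⟩ := hS.cover_cent hA hn (k1 hc1) (hc hc1) (k1 hc1)
    (fun e => c1 (Subtype.ext e)) hxS
  have m : a⁻¹ * y ∈ π.ker := by rw [MonoidHom.mem_ker, map_mul, map_inv, e1, e, inv_mul_cancel]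
  have m2 : y ∈ 𝒞(W) := by simpa using mul_mem ha.2 (kW m)
  exact h2 (by rwa [inf_eq_left.2 (cents_symm (zpowers_le.2 m2))] at hfix')

/-- a Sylow `2`-subgroup `P ≥ ker` of `G` is abelian (`abelem_two`); lift an involution of `S` into a Sylow
`2`-subgroup; `Simp.cover` for the normal subgroup `𝒞(ker) ≥ ker` -/
theorem Cov.two (h : Cov π 2) (h4 : ¬ HasOrd G (2 ^ 2)) {S : Subgroup Γ} (hS : Simp S)
    (h2 : 2 ∣ Nat.card S) : S.comap π ≤ 𝒞(π.ker) := by
  haveI : Fact (Nat.Prime 2) := ⟨Nat.prime_two⟩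
  obtain ⟨s, hs⟩ := exists_prime_orderOf_dvd_card' 2 h2
  rw [← Subgroup.orderOf_coe] at hs
  obtain ⟨g, hg⟩ := h.surj s
  obtain ⟨y, -, e, n, hn⟩ := lift_pow π (a := 1) Nat.prime_two g (by
    rw [pow_one, hg, ← hs, pow_orderOf_eq_one])
  have k1 : IsPGroup 2 (π.ker ⊔ zpowers y : Subgroup G) := IsPGroup.to_sup_of_normal_left
    ((pigroup_singleton Nat.prime_two).1 (abelem_pgroup h.prime h.ab))
    ((pigroup_singleton Nat.prime_two).1 (kera_pgp Nat.prime_two hn))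
  have k2 := abelem_cents (abelem_two h4 ((pigroup_singleton Nat.prime_two).2 k1))
  have k3 : y ∈ 𝒞(π.ker) := mem_cent_iff.2 fun v hv =>
    cents_iff.1 k2 v (mem_sup_left hv) y (mem_sup_right (mem_zpowers y))
  have k4 := hS.cover (A := S.comap π) (C := 𝒞(π.ker)) (map_comap_eq_self_of_surjective h.surj S).ge
    (norms_cent (le_top.trans (normalizer_eq_top π.ker).ge)) k3 (by rw [e, hg]; exact s.2) (by
      rw [e, hg]
      intro e1
      rw [e1, orderOf_one] at hs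
      exact absurd hs (by norm_num))
  exact (comap_mono k4).trans ((comap_map_eq π _).le.trans (sup_le le_rfl (abelem_cents h.ab)))

end CfsgLib.RP
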