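import Mathlib
import Cfsg.Agent.Lib.RP.Defs

/-!
Products of commuting elements and of commuting subgroups.
-/

set_option autoImplicit false
set_option linter.unusedSectionVars false
set_option linter.unusedVariables false
set_option linter.style.haveILetI false

namespace CfsgLib.RP

open Cfsg Subgroup CfsgLib.BG CfsgLib.CIT.App CfsgLib.Comp CfsgLib.SpecSq
open scoped commutatorElement MatrixGroups

variable {G : Type*} [Group G] [Finite G] {Γ : Type*} [Group Γ] [Finite Γ] {π : G →* Γ}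
  {k : ℕ} {m : Fin k → ℕ}

/-- `Finset.noncommProd`, or induction on a `Finset` -/
theorem pe {ι : Type*} [Fintype ι] (x : ι → Γ) (hc : Pairwise fun i j => Commute (x i) (x j))
    (ho : Pairwise fun i j => (orderOf (x i)).Coprime (orderOf (x j))) :
    ∃ g ∈ closure (Set.range x), orderOf g = ∏ i, orderOf (x i) := by
  classical
  have k : ∀ s : Finset ι, ∃ g ∈ closure (Set.range x), (∀ j ∉ s, Commute (x j) g) ∧
      orderOf g = ∏ i ∈ s, orderOf (x i) := fun s => by
    induction s using Finset.induction_on with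
    | empty => exact ⟨1, one_mem _, fun _ _ => Commute.one_right _, by simp⟩
    | insert a s ha ih =>
      obtain ⟨g, hg, c, e⟩ := ih
      refine ⟨x a * g, mul_mem (subset_closure ⟨a, rfl⟩) hg, fun j hj => ?_, ?_⟩
      · rw [Finset.mem_insert, not_or] at hj
        exact (hc hj.1).mul_right (c j hj.2)
      · rw [Finset.prod_insert ha, (c a ha).orderOf_mul_eq_mul_orderOf_of_coprime, e]
        exact e ▸ Nat.Coprime.prod_right fun i hi => ho fun h => ha (h ▸ hi)
  obtain ⟨g, hg, -, e⟩ := k Finset.univ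
  exact ⟨g, hg, e⟩

theorem pe_opt {ι : Type*} [Fintype ι] (x : ι → Γ) (y : Γ)
    (hc : Pairwise fun i j => Commute (x i) (x j))
    (ho : Pairwise fun i j => (orderOf (x i)).Coprime (orderOf (x j))) (hy : ∀ i, Commute y (x i))
    (hy' : ∀ i, (orderOf y).Coprime (orderOf (x i))) :
    ∃ g : Γ, orderOf y ∣ orderOf g ∧ ∀ i, orderOf (x i) ∣ orderOf g := by
  obtain ⟨g, hg, e⟩ := pe x hc ho
  have c : Commute y g := mem_centralizer_singleton_iff.1 ((closure_le (centralizer {y})).2 (by
    rintro _ ⟨i, rfl⟩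
    exact mem_centralizer_singleton_iff.2 (hy i).symm) hg) |>.symm
  refine ⟨y * g, ?_⟩
  rw [c.orderOf_mul_eq_mul_orderOf_of_coprime (e ▸ Nat.Coprime.prod_right fun i _ => hy' i), e]
  exact ⟨dvd_mul_right _ _, fun i => (Finset.dvd_prod_of_mem _ (Finset.mem_univ i)).mul_left _⟩

/-- `g ↦ (l i)` where `g = l i * c i`, `l i ∈ S i`, `c i ∈ 𝒞(S i)` (`SpecSq.decomp`) is a bijective
homomorphism; or `Subgroup.noncommPiCoprod` -/
theorem pi_iso (S : Fin k → Subgroup Γ) (comm : ∀ i i', i ≠ i' → S i ≤ 𝒞(S i'))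
    (inf : ∀ i, S i ⊓ 𝒞(S i) = ⊥) (dec : ∀ i g, g ∈ S i ⊔ 𝒞(S i))
    (cent : ∀ g, (∀ i, g ∈ 𝒞(S i)) → g = 1) : Nonempty (Γ ≃* ∀ i, S i) := by
  choose l hl c hc e _ using fun i g => decomp (inf i) (dec i g)
  have u : ∀ i g a, a ∈ S i → a⁻¹ * g ∈ 𝒞(S i) → l i g = a := fun i g a ha h => by
    rw [eq_comm, ← inv_mul_eq_one, ← mem_bot, ← inf i]
    refine mem_inf.2 ⟨mul_mem (inv_mem ha) (hl i g), ?_⟩
    rw [show a⁻¹ * l i g = a⁻¹ * g * (c i g)⁻¹ by rw [mul_assoc, eq_mul_inv_of_mul_eq (e i g)]]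
    exact mul_mem h (inv_mem (hc i g))
  let f : Γ →* ∀ i, S i := MonoidHom.mk' (fun g i => ⟨l i g, hl i g⟩) fun a b => funext fun i =>
    Subtype.ext (u i _ _ (mul_mem (hl i a) (hl i b)) (by
      have : (l i a * l i b)⁻¹ * (a * b) = c i a * c i b := by
        rw [inv_mul_eq_iff_eq_mul]
        calc a * b = l i a * c i a * (l i b * c i b) := by rw [e, e]
          _ = l i a * (c i a * l i b) * c i b := by group
          _ = _ := by rw [← hc i a _ (hl i b)]; group
      exact this ▸ mul_mem (hc i a) (hc i b)))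
  refine ⟨MulEquiv.ofBijective f ⟨(injective_iff_map_eq_one f).2 fun g hg => cent g fun i => ?_,
    fun x => Subgroup.pi_mem_of_mulSingle_mem (H := f.range) x fun i => ⟨x i, funext fun j => Subtype.ext ?_⟩⟩⟩
  · have : l i g = 1 := congrArg Subtype.val (congrFun hg i)
    rw [← e i g, this, one_mul]
    exact hc i g
  · by_cases h : j = i
    · subst h
      rw [Pi.mulSingle_eq_same]
      exact u _ _ _ (x j).2 (by rw [inv_mul_cancel]; exact one_mem _)
    · rw [Pi.mulSingle_eq_of_ne h]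
      exact u _ _ _ (one_mem _) (by simpa using comm i j (Ne.symm h) (x i).2)

end CfsgLib.RP
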