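import Mathlib
import Cfsg.Agent.Lib.RP.Pe

/-!
A common fixed point on the kernel.
-/

set_option autoImplicit false
set_option linter.unusedSectionVars false
set_option linter.unusedVariables false
set_option linter.style.haveILetI false

namespace CfsgLib.RP

open Cfsg Subgroup CfsgLib.BG CfsgLib.CIT.App CfsgLib.Comp CfsgLib.SpecSq
open scoped commutatorElement MatrixGroups

variable {G : Type*} [Group G] [Finite G] {Γ : Type*} [Group Γ] [Finite Γ] {π : G →* Γ}
  {k : ℕ} {m : Fin k → ℕ}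

/-- induction on a `Finset I`: `W I = ker ⊓ ⨅ i ∈ I, 𝒞((zpowers (x i)).comap π) ≠ ⊥`; it is normalised by
`(S i').comap π` for `i' ∉ I`. Take `1 ≠ w ∈ W univ` (order `r`), `γ` from `pe`, a lift `g'` of `γ`; `w`
centralises `ker` and all lifts of the `x i`, hence `(closure (range x)).comap π ∋ g'`; replace `g'` by
its `r'`-part (a power `g' ^ r`, still of order divisible by all `orderOf (x i)`); `g = w * g'`. -/
theorem Cov.elt {r : ℕ} (h : Cov π r) (S : Fin k → Subgroup Γ)
    (comm : ∀ i i', i ≠ i' → S i ≤ 𝒞(S i')) (x : Fin k → Γ) (hx : ∀ i, x i ∈ S i)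
    (hp : ∀ i, (orderOf (x i)).Prime) (hr : ∀ i, orderOf (x i) ≠ r)
    (hne : Pairwise fun i j => orderOf (x i) ≠ orderOf (x j)) (hf : ∀ i, Fx π (S i) (x i)) :
    ∃ g : G, r ∣ orderOf g ∧ ∀ i, orderOf (x i) ∣ orderOf g := by
  classical
  have key : ∀ I : Finset (Fin k), π.ker ⊓ ⨅ i ∈ I, 𝒞((zpowers (x i)).comap π) ≠ ⊥ := by
    intro I
    induction I using Finset.induction_on with
    | empty => simpa using h.ne
    | insert a I ha ih =>
      rw [Finset.iInf_insert, inf_comm 𝒞((zpowers (x a)).comap π), ← inf_assoc]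
      refine hf a _ inf_le_left ih fun g hg => mem_normalizer_fintype fun w hw => ⟨?_, ?_⟩
      · exact (MonoidHom.normal_ker π).conj_mem w hw.1 g
      · have hw2 : ∀ i ∈ I, w ∈ 𝒞((zpowers (x i)).comap π) := fun i hi =>
          Subgroup.mem_iInf.1 (Subgroup.mem_iInf.1 hw.2 i) hi
        refine Subgroup.mem_iInf.2 fun i => Subgroup.mem_iInf.2 fun hi => mem_centralizer_iff.2 fun y hy => ?_
        have e : π y * π g = π g * π y :=
          mem_centralizer_iff.1 (comm a i (fun e => ha (e ▸ hi)) hg) _ (zpowers_le.2 (hx i) hy)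
        have e2 := mem_centralizer_iff.1 (hw2 i hi) (g⁻¹ * y * g) (by
          rw [SetLike.mem_coe, mem_comap, map_mul, map_mul, map_inv, mul_assoc, e, inv_mul_cancel_left]
          exact hy)
        calc y * (g * w * g⁻¹) = g * (g⁻¹ * y * g * w) * g⁻¹ := by group
          _ = g * w * g⁻¹ * y := by rw [e2]; group
  obtain ⟨⟨w, hw, hw2⟩, w1⟩ := ne_bot_iff_exists_ne_one.1 (key Finset.univ)
  have := Fact.mk h.prime
  have ow : orderOf w = r := orderOf_eq_prime (h.ab.2 w hw) fun e => w1 (Subtype.ext e)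
  obtain ⟨γ, hγ, oγ⟩ := pe x
    (fun i j hij => (mem_centralizer_iff.1 (comm j i hij.symm (hx j)) _ (hx i) : x i * x j = x j * x i))
    fun i j hij => (Nat.coprime_primes (hp i) (hp j)).2 (hne hij)
  obtain ⟨c, hc, rfl⟩ : γ ∈ (centralizer ({w} : Set G)).map π := by
    refine (closure_le _).2 ?_ hγ
    rintro _ ⟨i, rfl⟩
    obtain ⟨y, hy⟩ := h.surj (x i)
    exact ⟨y, mem_centralizer_singleton_iff.2 (mem_centralizer_iff.1
      (Subgroup.mem_iInf.1 (Subgroup.mem_iInf.1 hw2 i) (Finset.mem_univ i)) y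
      (by rw [SetLike.mem_coe, mem_comap, hy]; exact mem_zpowers _)), hy⟩
  have oc : ∀ i, orderOf (x i) ∣ orderOf c := fun i =>
    (oγ ▸ Finset.dvd_prod_of_mem (fun i => orderOf (x i)) (Finset.mem_univ i)).trans (orderOf_map_dvd π c)
  by_cases hd : r ∣ orderOf c
  · exact ⟨c, hd, oc⟩
  · have e : orderOf (c * w) = orderOf c * orderOf w :=
      Commute.orderOf_mul_eq_mul_orderOf_of_coprime (mem_centralizer_singleton_iff.1 hc)
        (ow ▸ ((h.prime.coprime_iff_not_dvd).2 hd).symm)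
    exact ⟨c * w, by rw [e, ow]; exact dvd_mul_left _ _, fun i => e ▸ (oc i).mul_right _⟩

end CfsgLib.RP
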