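import Mathlib
import Cfsg.Agent.Lib.RP.Ar2

/-!
Consequences of the upper bound on the element orders.
-/

set_option autoImplicit false
set_option linter.unusedSectionVars false
set_option linter.unusedVariables false
set_option linter.style.haveILetI false

namespace CfsgLib.RP

open Cfsg Subgroup CfsgLib.BG CfsgLib.CIT.App CfsgLib.Comp CfsgLib.SpecSq
open scoped commutatorElement MatrixGroups

variable {G : Type*} [Group G] [Finite G] {Γ : Type*} [Group Γ] [Finite Γ] {π : G →* Γ}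
  {k : ℕ} {m : Fin k → ℕ}

theorem up_ne {n d : ℕ} (hd : Om n d) : d ≠ 0 := by
  rintro rfl
  rcases hd with h | h | ⟨j, h⟩
  · simp at h
  · simp at h
  · exact (tn_pos n j).ne' (zero_dvd_iff.1 h)

theorem up_prime {n d r : ℕ} (hd : Om n d) (hr : r.Prime) (h : r ∣ d) :
    r = 2 ∨ r = 3 ∨ ∃ j, r ∣ tn n j := by
  rcases hd with e | e | ⟨j, e⟩
  · rcases (Nat.Prime.dvd_mul hr (m := 2) (n := 3)).1 (h.trans e) with a | a
    · exact Or.inl ((Nat.prime_dvd_prime_iff_eq hr Nat.prime_two).1 a)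
    · exact Or.inr (Or.inl ((Nat.prime_dvd_prime_iff_eq hr Nat.prime_three).1 a))
  · exact Or.inr (Or.inl ((Nat.prime_dvd_prime_iff_eq hr Nat.prime_three).1
      (hr.dvd_of_dvd_pow (n := 2) (h.trans e))))
  · exact Or.inr (Or.inr ⟨j, h.trans e⟩)

/-- a class prime dividing the least common multiple pins down the member -/
theorem up_key (hP : Par m) {o : Fin k → ℕ} (ho : ∀ i, Om (m i) (o i)) {i : Fin k} {j : Fin 4} {r : ℕ}
    (hr : Cp (m i) j r) (h : r ∣ Finset.univ.lcm o) : r ∣ o i ∧ o i ∣ tn (m i) j := by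
  obtain ⟨i', hi⟩ := prime_dvd_lcm hr.1 h
  have h5 := hr.five_le
  rcases up_prime (ho i') hr.1 hi with e | e | ⟨j', e⟩
  · omega
  · omega
  · obtain ⟨rfl, -⟩ := hP.excl hr e
    exact ⟨hi, hr.dvd_of_om (ho i) hi⟩

theorem U.of_surj (h : U m G) (π : G →* Γ) (hπ : Function.Surjective π) : U m Γ := by
  intro y
  obtain ⟨g, rfl⟩ := hπ y
  obtain ⟨o, ho, hd⟩ := h g
  exact ⟨o, ho, (orderOf_map_dvd π g).trans hd⟩

theorem U.no4 (h : U m G) : ¬ HasOrd G (2 ^ 2) := by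
  rintro ⟨g, hg⟩
  obtain ⟨o, ho, hd⟩ := h g
  obtain ⟨i, hi⟩ := pow_dvd_lcm Nat.prime_two (by norm_num) (fun i => up_ne (ho i)) (hg ▸ hd)
  rcases ho i with e | e | ⟨j, e⟩
  · exact absurd (hi.trans e) (by norm_num)
  · exact absurd (hi.trans e) (by norm_num)
  · exact not4 _ j (hi.trans e)

theorem U.no27 (h : U m G) : ¬ HasOrd G 27 := by
  rintro ⟨g, hg⟩
  obtain ⟨o, ho, hd⟩ := h g
  obtain ⟨i, hi⟩ := pow_dvd_lcm (e := 3) Nat.prime_three (by norm_num) (fun i => up_ne (ho i)) (by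
    rw [hg] at hd; exact hd)
  rcases ho i with e | e | ⟨j, e⟩
  · exact absurd (hi.trans e) (by norm_num)
  · exact absurd (hi.trans e) (by norm_num)
  · exact not3 _ j ((by norm_num : 3 ∣ 3 ^ 3).trans (hi.trans e))

theorem U.pr (h : U m G) {r : ℕ} (hr : r.Prime) (hd : r ∣ Nat.card G) :
    r = 2 ∨ r = 3 ∨ r = 7 ∨ ∃ i j, Cp (m i) j r := by
  obtain ⟨g, hg⟩ := hasOrd_of_prime_dvd hr hd
  obtain ⟨o, ho, hd⟩ := h g
  obtain ⟨i, hi⟩ := prime_dvd_lcm hr (hg ▸ hd)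
  by_cases h2 : r = 2
  · exact Or.inl h2
  by_cases h7 : r = 7
  · exact Or.inr (Or.inr (Or.inl h7))
  rcases up_prime (ho i) hr hi with e | e | ⟨j, e⟩
  · exact Or.inl e
  · exact Or.inr (Or.inl e)
  · exact Or.inr (Or.inr (Or.inr ⟨i, j, hr, h2, h7, e⟩))

theorem U.no5 (h : U m G) : ¬ 5 ∣ Nat.card G := by
  intro hd
  rcases h.pr Nat.prime_five hd with e | e | e | ⟨i, j, e⟩
  · omega
  · omega
  · omega
  · exact not5 _ j e.2.2.2

theorem U.cop (hP : Par m) (h : U m G) (i : Fin k) : ¬ (2 * m i + 1) ∣ Nat.card G := by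
  intro hd
  have := hP.md i
  rcases h.pr (hP.prime i) hd with e | e | e | ⟨i', j, e⟩
  · omega
  · omega
  · omega
  · exact hP.nd i i' j e.2.2.2

/-- `r ∣ o i'` forces `i' = i` (`Par.excl`) and `o i ∣ tn (m i) j` (`Cp.dvd_of_om`) -/
theorem U.nonadj (hP : Par m) (h : U m G) {i : Fin k} {j j' : Fin 4} {r s : ℕ} (hr : Cp (m i) j r)
    (hs : Cp (m i) j' s) (hj : j ≠ j') : ¬ HasOrd G (r * s) := by
  rintro ⟨g, hg⟩
  obtain ⟨o, ho, hd⟩ := h g
  rw [hg] at hd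
  have a := up_key hP ho hr ((dvd_mul_right r s).trans hd)
  have b := up_key hP ho hs ((dvd_mul_left s r).trans hd)
  exact hj (tn_cop hr.1 hr.2.1 hr.2.2.2 (a.1.trans b.2))

theorem U.all (hP : Par m) (h : U m G) {j : Fin k → Fin 4} {r : Fin k → ℕ}
    (hr : ∀ i, Cp (m i) (j i) (r i)) {g : G} (hg : ∀ i, r i ∣ orderOf g) :
    orderOf g ∣ Finset.univ.lcm fun i => tn (m i) (j i) := by
  obtain ⟨o, ho, hd⟩ := h g
  exact hd.trans (Finset.lcm_dvd fun i hi =>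
    (up_key hP ho (hr i) ((hg i).trans hd)).2.trans (Finset.dvd_lcm (f := fun i => tn (m i) (j i)) hi))

theorem U.all_prime (hP : Par m) (h : U m G) {j : Fin k → Fin 4} {r : Fin k → ℕ}
    (hr : ∀ i, Cp (m i) (j i) (r i)) {g : G} (hg : ∀ i, r i ∣ orderOf g) {t : ℕ} (ht : t.Prime)
    (hd : t ∣ orderOf g) : ∃ i, t ∣ tn (m i) (j i) := by
  exact prime_dvd_lcm ht (hd.trans (h.all hP hr hg))

/-- for `i ≠ i₀`, `o i ∣ tn (m i) 0` is prime to `7` and `t`; so `7 ∣ o i₀`, `o i₀ ∣ tn (m i₀) 2` -/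
theorem U.but (hP : Par m) (h : U m G) (i₀ : Fin k) {r : Fin k → ℕ}
    (hr : ∀ i, i ≠ i₀ → Cp (m i) 0 (r i)) {g : G} (hg : ∀ i, i ≠ i₀ → r i ∣ orderOf g) {t : ℕ}
    (ht : t = 3 ∨ Cp (m i₀) 0 t) (h7 : 7 ∣ orderOf g) : ¬ t ∣ orderOf g := by
  intro hd'
  obtain ⟨o, ho, hd⟩ := h g
  have k0 : ∀ i, i ≠ i₀ → o i ∣ tn (m i) 0 := fun i hi => (up_key hP ho (hr i hi) ((hg i hi).trans hd)).2
  have p7 : Nat.Prime 7 := by norm_num
  obtain ⟨i, hi⟩ := prime_dvd_lcm p7 (h7.trans hd)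
  have e : i = i₀ := by
    by_contra hn
    exact absurd ((seven (hP.md i)).1 (hi.trans (k0 i hn))) (by decide)
  subst e
  have k2 : o i ∣ tn (m i) 2 := by
    rcases ho i with e | e | ⟨j, e⟩
    · exact absurd (hi.trans e) (by norm_num)
    · exact absurd (hi.trans e) (by norm_num)
    · rwa [(seven (hP.md i)).1 (hi.trans e)] at e
  rcases ht with rfl | ht
  · obtain ⟨i', hi'⟩ := prime_dvd_lcm Nat.prime_three (hd'.trans hd)
    by_cases e : i' = i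
    · exact not3 _ _ ((e ▸ hi').trans k2)
    · exact not3 _ _ (hi'.trans (k0 i' e))
  · exact absurd (tn_cop ht.1 ht.2.1 ht.2.2.2 ((up_key hP ho ht (hd'.trans hd)).1.trans k2)) (by decide)

end CfsgLib.RP
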