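import Mathlib
import Cfsg.Agent.Lib.RP.Up
import Cfsg.Agent.Lib.RP.Ker0
import Cfsg.Agent.Lib.RP.KerA
import Cfsg.Agent.Lib.RP.KerB
import Cfsg.Agent.Lib.RP.Ker3

/-!
The solvable radical is trivial.
-/

set_option autoImplicit false
set_option linter.unusedSectionVars false
set_option linter.unusedVariables false
set_option linter.style.haveILetI false

namespace CfsgLib.RP

open Cfsg Subgroup CfsgLib.BG CfsgLib.CIT.App CfsgLib.Comp CfsgLib.SpecSq
open scoped commutatorElement MatrixGroups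

variable {G : Type*} [Group G] [Finite G] {Γ : Type*} [Group Γ] [Finite Γ] {π : G →* Γ}
  {k : ℕ} {m : Fin k → ℕ}

variable {S : Fin k → Subgroup Γ}

theorem Rp.elt {n : ℕ} {T : Subgroup Γ} (h : Rp n T) {j : Fin 4} {s : ℕ} (hs : Cp n j s) :
    ∃ x ∈ T, orderOf x = s := (h.ord s).2 (.inr (.inr ⟨j, hs.2.2.2⟩))

theorem Par.ne (hP : Par m) {j : Fin k → Fin 4} {s : Fin k → ℕ} {i i' : Fin k} (hi : i ≠ i')
    (h : Cp (m i) (j i) (s i)) (h' : Cp (m i') (j i') (s i')) : s i ≠ s i' := fun e =>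
  hi (hP.excl h (e ▸ h'.2.2.2)).1

/-- all `x i` of class prime order -/
theorem Cov.all {r : ℕ} (h : Cov π r) (hP : Par m) (hU : U m G) (hD : Dp m S) (j : Fin 4)
    (x : Fin k → Γ) (hx : ∀ i, x i ∈ S i) (hc : ∀ i, Cp (m i) j (orderOf (x i)))
    (hr : ∀ i, ¬ r ∣ tn (m i) j) (hf : ∀ i, Fx π (S i) (x i)) : False := by
  obtain ⟨g, h1, h2⟩ := h.elt S hD.comm x hx (fun i => (hc i).1)
    (fun i e => hr i (e ▸ (hc i).2.2.2))
    (fun i i' hi => hP.ne (j := fun _ => j) (s := fun i => orderOf (x i)) hi (hc i) (hc i')) hf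
  obtain ⟨i, hi⟩ := hU.all_prime hP (j := fun _ => j) hc h2 h.prime h1
  exact hr i hi

/-- `x i₀` of order seven -/
theorem Cov.but {r : ℕ} (h : Cov π r) (hP : Par m) (hU : U m G) (hD : Dp m S) (i₀ : Fin k)
    (ht : r = 3 ∨ Cp (m i₀) 0 r) (x : Fin k → Γ) (hx : ∀ i, x i ∈ S i)
    (hc : ∀ i, Cp (m i) 0 (orderOf (x i))) (hf : ∀ i, i ≠ i₀ → Fx π (S i) (x i)) : False := by
  classical
  obtain ⟨y, hy, hF⟩ := (hD.rp i₀).fr7
  have h2 : 2 ≠ r := by
    rcases ht with rfl | ht
    · norm_num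
    · exact ht.2.1.symm
  have h7 : 7 ≠ r := by
    rcases ht with rfl | ht
    · norm_num
    · exact ht.2.2.1.symm
  have p7 : Nat.Prime 7 := by norm_num
  have hr : ∀ i, i ≠ i₀ → orderOf (x i) ≠ r := fun i hi e => by
    rcases ht with rfl | ht
    · have := (hc i).five_le
      omega
    · exact hi (hP.excl (hc i) (e ▸ ht.2.2.2)).1
  have key : ∀ P : (i : Fin k) → Γ → Prop, P i₀ y → (∀ i, i ≠ i₀ → P i (x i)) →
      ∀ i, P i (Function.update x i₀ y i) := fun P a b i => by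
    by_cases hi : i = i₀
    · subst hi
      rwa [Function.update_self]
    · rw [Function.update_of_ne hi]
      exact b i hi
  obtain ⟨g, h1, h3⟩ := h.elt S hD.comm (Function.update x i₀ y)
    (key (fun i z => z ∈ S i) hF.1 fun i _ => hx i)
    (key (fun i z => (orderOf z).Prime) (hy ▸ p7) fun i _ => (hc i).1)
    (key (fun i z => orderOf z ≠ r) (hy ▸ h7) hr)
    (fun i i' hi => by
      by_cases a : i = i₀
      · subst a
        simp only [Function.update_self, Function.update_of_ne hi.symm, hy]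
        exact (hc i').2.2.1.symm
      · by_cases a' : i' = i₀
        · subst a'
          simp only [Function.update_self, Function.update_of_ne hi, hy]
          exact (hc i).2.2.1
        · simp only [Function.update_of_ne a, Function.update_of_ne a']
          exact hP.ne (j := fun _ => 0) (s := fun i => orderOf (x i)) hi (hc i) (hc i'))
    (key (fun i z => Fx π (S i) z)
      (h.fx (hD.rp i₀).simp Nat.prime_two h2 (hy ▸ p7) (hy ▸ h7) hF) hf)
  refine hU.but hP i₀ (r := fun i => orderOf (x i)) (fun i _ => hc i) (fun i hi => ?_) ht ?_ h1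
  · have := h3 i
    rwa [Function.update_of_ne hi] at this
  · have := h3 i₀
    rwa [Function.update_self, hy] at this

theorem Cov.false {r : ℕ} (h : Cov π r) (hP : Par m) (hU : U m G) (hD : Dp m S) : False := by
  have ex := fun i j => ex_cp (hP.md i) (hP.one_le i) j
  by_cases h2 : r = 2
  · subst h2
    choose s hs using fun i => ex i 3
    choose x hx e using fun i => (hD.rp i).elt (hs i)
    refine h.all hP hU hD 3 x hx (fun i => (e i).symm ▸ hs i) (fun i => odd3 _) fun i =>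
      fx_of_cent (hx i) (h.two hU.no4 (hD.rp i).simp ?_)
    obtain ⟨t, ht, e⟩ := ((hD.rp i).ord 2).2 (.inl (by norm_num))
    exact e ▸ order_dvdG ht
  choose s hs using fun i => ex i 0
  choose x e hx using fun i => (hD.rp i).fr3 _ (hs i)
  have hc : ∀ i, Cp (m i) 0 (orderOf (x i)) := fun i => (e i).symm ▸ hs i
  by_cases h3 : r = 3
  · subst h3
    by_cases h4 : ∀ i, (S i).comap π ≤ 𝒞(π.ker)
    · exact h.all hP hU hD 0 x (fun i => (hx i).1) hc (fun i => not3 _ _) fun i =>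
        fx_of_cent (hx i).1 (h4 i)
    push Not at h4
    obtain ⟨i₀, h4⟩ := h4
    refine h.but hP hU hD i₀ (.inl rfl) x (fun i => (hx i).1) hc fun i hi => fx_of_cent (hx i).1 ?_
    by_contra h5
    obtain ⟨u, hu, ou⟩ := ((hD.rp i₀).ord 9).2 (.inr (.inl dvd_rfl))
    obtain ⟨v, hv, ov⟩ := ((hD.rp i).ord 9).2 (.inr (.inl dvd_rfl))
    exact hU.no27 (h.h27 hU.no4 (hD.rp i₀).simp (hD.rp i₀).der (hD.rp i).simp (hD.rp i).der
      (hD.comm i i₀ hi) (hD.dec i₀) h4 h5 hu hv ou ov)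
  have hf : ∀ i, orderOf (x i) ≠ r → Fx π (S i) (x i) := fun i hi =>
    h.fx (hD.rp i).simp Nat.prime_three (Ne.symm h3) (hc i).1 hi (hx i)
  by_cases h4 : ∃ i₀, Cp (m i₀) 0 r
  · obtain ⟨i₀, h4⟩ := h4
    exact h.but hP hU hD i₀ (.inr h4) x (fun i => (hx i).1) hc fun i hi => hf i fun e' =>
      hi (hP.excl (hc i) (e' ▸ h4.2.2.2)).1
  push Not at h4
  have h5 : ∀ i, ¬ r ∣ tn (m i) 0 := fun i hd => h4 i ⟨h.prime, h2, fun e' => by
    subst e'
    exact absurd ((seven (hP.md i)).1 hd) (by decide), hd⟩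
  exact h.all hP hU hD 0 x (fun i => (hx i).1) hc h5 fun i => hf i fun e' => h4 i (e' ▸ hc i)

theorem ker_bot (hP : Par m) (hU : U m G) (hD : Dp m S) (hπ : Function.Surjective π)
    (hK : Group.IsSolvable π.ker) : π.ker = ⊥ := by
  by_contra hne
  obtain ⟨N, _, π', r, h⟩ := ker_red hπ hK hne
  exact h.false hP (hU.of_surj _ (QuotientGroup.mk'_surjective N)) hD

end CfsgLib.RP
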