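import Mathlib
import Cfsg.Agent.Lib.RP.Ar1
import Cfsg.Agent.S2127

/-!
The properties of a Ree subgroup.
-/

set_option autoImplicit false
set_option linter.unusedSectionVars false
set_option linter.unusedVariables false
set_option linter.style.haveILetI false

namespace CfsgLib.RP

open Cfsg Subgroup CfsgLib.BG CfsgLib.CIT.App CfsgLib.Comp CfsgLib.SpecSq
open scoped commutatorElement MatrixGroups

variable {G : Type*} [Group G] [Finite G] {Γ : Type*} [Group Γ] [Finite Γ] {π : G →* Γ}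
  {k : ℕ} {m : Fin k → ℕ}

/-- a `t`-subgroup normalised by `x` of prime order `s ≠ t` with no element of order `t * s` -/
theorem fp_of {S Q : Subgroup Γ} {t : ℕ} (ht : t.Prime) {x : Γ} (hx : x ∈ S) (hs : (orderOf x).Prime)
    (hts : t ≠ orderOf x) (hQ : IsPiSubgroup {t} Q) (h1 : Q ≠ ⊥) (h2 : Q ≤ S) (h3 : x ∈ 𝒩(Q))
    (hno : ¬ ∃ g ∈ S, orderOf g = t * orderOf x) : Fp t S x := by
  refine ⟨hx, Q, hQ, h1, h2, h3, fun y hy y1 => ?_⟩
  by_contra hne
  have hy' : orderOf y = orderOf x :=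
    ((hs.eq_one_or_self_of_dvd _ (orderOf_dvd_of_mem_zpowers hy)).resolve_left
      fun h => y1 (orderOf_eq_one_iff.1 h))
  refine hno (exists_mul_of_cent (X := Q ⊓ 𝒞[y]) (P := zpowers y) ht hs hts
    (pgp_pdiv (fun p hp hd => hQ p hp (hd.trans (card_dvd_of_le inf_le_left))) hne).2 (by rw [Nat.card_zpowers, hy'])
    (zpowers_le.2 (mem_cent_iff.2 fun a ha => mem_cent1.1 ha.2)) (inf_le_left.trans h2)
    (zpowers_le.2 (zpowers_le.2 hx hy)))

theorem fp_of_equiv {S : Subgroup Γ} {X : Type*} [Group X] (e : S ≃* X) {Q : Subgroup X} {t a : ℕ}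
    (ht : t.Prime) (ha : 1 ≤ a) (hQ : Nat.card Q = t ^ a) {x : X} (hx : x ∈ 𝒩(Q)) {s : ℕ}
    (hs : s.Prime) (ho : orderOf x = s) (hts : t ≠ s) (hno : ¬ ∃ g ∈ S, orderOf g = t * s) :
    ∃ y, orderOf y = s ∧ Fp t S y := by
  let ι : X →* Γ := S.subtype.comp e.symm.toMonoidHom
  have hι : Function.Injective ι := S.subtype_injective.comp e.symm.injective
  have h1 : orderOf (ι x) = s := (orderOf_injective ι hι x).trans ho
  have h2 : Nat.card (Q.map ι) = t ^ a := (card_map_of_injective hι).trans hQ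
  refine ⟨ι x, h1, fp_of (Q := Q.map ι) ht (e.symm x).2 (h1 ▸ hs) (h1 ▸ hts) (pgp_of_card_pow h2 ht)
    (fun h => ?_) ?_ (le_normalizer_map ι ⟨x, hx, rfl⟩) (h1 ▸ hno)⟩
  · rw [h, card_bot] at h2
    exact absurd h2.symm (Nat.one_lt_pow (by omega) ht.one_lt).ne'
  · rintro _ ⟨y, -, rfl⟩
    exact (e.symm y).2

theorem not_two_dvd_tn2 (n : ℕ) : ¬ 2 ∣ tn n 2 := by
  have h1 : 3 ^ (2 * n + 1) % 2 = 1 := by rw [Nat.pow_mod]; simp
  have h2 : 3 ^ (n + 1) % 2 = 1 := by rw [Nat.pow_mod]; simp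
  change ¬ 2 ∣ 3 ^ (2 * n + 1) + 3 ^ (n + 1) + 1
  omega

/-- model: `jp_of` (JB.lean). `ord`: `ree_ord`; `out`: `pow_card_out_mem`, `MultC.card_out_congr`, S2127;
`fr3`: in the model `M = Ree.reeModel hK` the torus `M.H` (cyclic of order `q - 1`, elements `M.h l`)
normalises the Sylow `3`-subgroup `M.U`; `fr7`: `ReeRec.exists_cyclic`, Sylow `2` of order `8`,
`14` is not an order (`seven`, `odd` torus order `tn n 2`). -/
theorem rp_of {K : Type*} [Field K] [Fintype K] {n : ℕ} (hn : 1 ≤ n) (md : (2 * n + 1) % 84 = 1)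
    (hK : Fintype.card K = 3 ^ (2 * n + 1)) {S : Subgroup Γ} (simp : Simp S) (der : ⁅S, S⁆ = S)
    (inf : S ⊓ 𝒞(S) = ⊥) (e : S ≃* Lie.twistedG2 K (3 ^ n)) : Rp n S := by
  have ho : ∀ d, (∃ g ∈ S, orderOf g = d) ↔ Om n d := fun d => by
    rw [← ree_ord hn hK, ← hasOrd_congr e]
    exact ⟨fun ⟨g, hg, h⟩ => ⟨⟨g, hg⟩, (orderOf_coe _).symm.trans h⟩,
      fun ⟨g, h⟩ => ⟨g, g.2, (orderOf_coe _).trans h⟩⟩
  haveI := Ree.charP_three hK
  have hφ := Ree.isTits_tits hK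
  let M := Ree.reeModel hK
  haveI : Finite (Lie.twistedG2 K (3 ^ n)) := Finite.of_equiv _ e.toEquiv
  refine ⟨simp, der, inf, ho, fun g hg => ?_, fun s hs => ?_, ?_⟩
  · have := pow_card_out_mem S hg
    rwa [MultC.card_out_congr e, Agent.S2127.result hn hK] at this
  · haveI := Fact.mk hs.1
    obtain ⟨x, hx⟩ := exists_prime_orderOf_dvd_card' (G := M.H) s (by
      rw [M.card_H, Ree.natCard_eq hK]; exact hs.2.2.2)
    have h5 := hs.five_le
    refine fp_of_equiv e (Q := M.U hφ) (a := (2 * n + 1) * 3) Nat.prime_three (by omega)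
      (by rw [M.card_U, Ree.natCard_eq hK, pow_mul]) (x := x.1) ?_ hs.1 ((orderOf_coe _).trans hx)
      (by omega) fun h => not3 n 0 ?_
    · exact le_normalizer_iff.2 (fun b hb u hu => M.conj_mem_U hφ hb hu) (M.H_le_B hφ x.2)
    · exact (dvd_mul_right 3 s).trans (hs.dvd_of_om ((ho _).1 h) (dvd_mul_left s 3))
  · haveI := Fact.mk Nat.prime_two
    obtain ⟨P⟩ : Nonempty (Sylow 2 (Lie.twistedG2 K (3 ^ n))) := inferInstance
    haveI : Fact (Nat.Prime 7) := ⟨by norm_num⟩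
    obtain ⟨x, hx⟩ := exists_prime_orderOf_dvd_card' (G := 𝒩((P : Subgroup (Lie.twistedG2 K (3 ^ n))))) 7
      (by rw [(M.sylow_two_local hφ P).2]; norm_num)
    refine fp_of_equiv e (Q := P) (a := 3) Nat.prime_two (by omega)
      (M.sylow_two hφ P).1 x.2 (by norm_num) ((orderOf_coe _).trans hx) (by norm_num) fun h => ?_
    rcases (ho _).1 h with h | h | ⟨j, h⟩
    · omega
    · omega
    · obtain rfl := (seven md).1 ((dvd_mul_left 7 2).trans h)
      exact not_two_dvd_tn2 n ((dvd_mul_right 2 7).trans h)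

end CfsgLib.RP
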