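import Mathlib
import Cfsg.Agent.Lib.RP.Ar1

/-!
The sequence of primes.
-/

set_option autoImplicit false
set_option linter.unusedSectionVars false
set_option linter.unusedVariables false
set_option linter.style.haveILetI false

namespace CfsgLib.RP

open Cfsg Subgroup CfsgLib.BG CfsgLib.CIT.App CfsgLib.Comp CfsgLib.SpecSq
open scoped commutatorElement MatrixGroups

variable {G : Type*} [Group G] [Finite G] {Γ : Type*} [Group Γ] [Finite Γ] {π : G →* Γ}
  {k : ℕ} {m : Fin k → ℕ}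

theorem seq_aux {a b : ℕ} (ha : a.Prime) (hb : b.Prime) (h84 : a % 84 = 1) (hab : a ≤ b) :
    ¬ a ∣ 3 ^ (6 * b) - 1 := fun h => by
  haveI := Fact.mk ha
  have key : ∀ n, a ∣ 3 ^ n - 1 ↔ orderOf (3 : ZMod a) ∣ n := fun n => by
    rw [orderOf_dvd_iff_pow_eq_one, ← ZMod.natCast_eq_zero_iff, Nat.cast_sub (Nat.one_le_pow _ _ (by norm_num)),
      sub_eq_zero]
    simp
  have h2 := ha.two_le
  have h3 : (3 : ZMod a) ≠ 0 := fun e => by
    have := Nat.le_of_dvd (by norm_num) ((ZMod.natCast_eq_zero_iff 3 a).1 (by simpa using e))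
    omega
  have c : Nat.Coprime (orderOf (3 : ZMod a)) b :=
    Nat.Coprime.coprime_dvd_left (ZMod.orderOf_dvd_card_sub_one h3)
      ((Nat.coprime_of_lt_prime (by omega) (by omega) hb).symm)
  have d : a ∣ 8 * 7 * 13 := (key 6).2 (c.dvd_of_dvd_mul_right ((key _).1 h))
  rcases (Nat.Prime.dvd_mul ha).1 d with d | d
  · rcases (Nat.Prime.dvd_mul ha).1 d with d | d <;> have := Nat.le_of_dvd (by norm_num) d <;> omega
  · have := Nat.le_of_dvd (by norm_num) d
    omega

/-- recursively `p (i+1)` = a prime `≡ 1` modulo `84` above `3 ^ (6 * p i)` (`Nat.exists_prime_gt_modEq_one`).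
If `p i ∣ tn .. ∣ 3 ^ (6 p i') - 1`: for `i' < i` the divisor is too big; for `i ≤ i'` the order of `3`
modulo `p i` divides `6 p i'` and `p i - 1 < p i'`, so it divides `6` and `p i ∣ 728 = 8 * 7 * 13`. -/
theorem seq : ∃ p : ℕ → ℕ, StrictMono p ∧ (∀ i, (p i).Prime ∧ p i % 84 = 1) ∧
    ∀ i i' j, ¬ p i ∣ tn ((p i' - 1) / 2) j := by
  choose f f1 f2 f3 using fun n => Nat.exists_prime_gt_modEq_one (k := 84) n (by norm_num)
  obtain ⟨p, p0, ps⟩ : ∃ p : ℕ → ℕ, p 0 = f 0 ∧ ∀ i, p (i + 1) = f (3 ^ (6 * p i)) :=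
    ⟨fun i => Nat.rec (f 0) (fun _ x => f (3 ^ (6 * x))) i, rfl, fun _ => rfl⟩
  have hp : ∀ i, (p i).Prime ∧ p i % 84 = 1 := fun i => by
    cases i with
    | zero => rw [p0]; exact ⟨f1 _, f3 _⟩
    | succ i => rw [ps]; exact ⟨f1 _, f3 _⟩
  have mono : StrictMono p := strictMono_nat_of_lt_succ fun i => by
    have h1 := f2 (3 ^ (6 * p i))
    have h2 : 6 * p i < 3 ^ (6 * p i) := Nat.lt_pow_self (by norm_num)
    rw [ps]; omega
  refine ⟨p, mono, hp, fun i i' j h => ?_⟩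
  have h1 := h.trans (tn_dvd _ j)
  rw [show 2 * ((p i' - 1) / 2) + 1 = p i' by have := (hp i').2; omega] at h1
  rcases le_or_gt i i' with hi | hi
  · exact seq_aux (hp i).1 (hp i').1 (hp i).2 (mono.monotone hi) h1
  · have h2 : 6 * p i' < 3 ^ (6 * p i') := Nat.lt_pow_self (by norm_num)
    have h3 := (hp i').1.two_le
    have h4 := Nat.le_of_dvd (by omega) h1
    have h5 := mono.monotone (Nat.succ_le_of_lt hi)
    have h6 := f2 (3 ^ (6 * p i'))
    rw [ps] at h5
    omega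

end CfsgLib.RP
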