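import Mathlib
import Cfsg.Agent.Lib.RP.Up
import Cfsg.Agent.Lib.RP.Coc
import Cfsg.Agent.Lib.RP.Lay

/-!
At most one class of each index is bad.
-/

set_option autoImplicit false
set_option linter.unusedSectionVars false
set_option linter.unusedVariables false
set_option linter.style.haveILetI false

namespace CfsgLib.RP

open Cfsg Subgroup CfsgLib.BG CfsgLib.CIT.App CfsgLib.Comp CfsgLib.SpecSq
open scoped commutatorElement MatrixGroups

variable {G : Type*} [Group G] [Finite G] {Γ : Type*} [Group Γ] [Finite Γ] {π : G →* Γ}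
  {k : ℕ} {m : Fin k → ℕ}

/-- call `r` bad if it divides `#π.ker` or `(layer Γ).index`. By `coc` (`lay_sol`, `ex_cp`, `U.nonadj`) two
different classes of `i` do not both contain bad primes; `b i` = the class with a bad prime, if any.
Good primes divide `#layer` (`#G = #ker * #layer * index`); `adj`: `HasOrd.map_of_coprime`, and
`y ^ index ∈ layer` gives `y ∈ layer` (`mem_of_pow_mem`). -/
theorem soc1 (hP : Par m) (hU : U m G) (hL : Lo m G) (hπ : Function.Surjective π)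
    (hK : Group.IsSolvable π.ker) (hF : fittingSubgroup Γ = ⊥) : ∃ b, Sd m Γ b := by
  haveI : (layer Γ).Normal := layer_normal
  have hΓ := hU.of_surj π hπ
  have hM := lay_sol hF hΓ.no4
  let Bad : Fin k → Fin 4 → Prop := fun i j =>
    ∃ r, Cp (m i) j r ∧ (r ∣ Nat.card π.ker ∨ r ∣ (layer Γ).index)
  have uniq : ∀ i j j', Bad i j → Bad i j' → j = j' := by
    rintro i j j' ⟨r, hr, dr⟩ ⟨s, hs, ds⟩
    by_contra hne
    obtain ⟨l, l1, l2⟩ := (by decide : ∀ j j' : Fin 4, ∃ l, j ≠ l ∧ j' ≠ l) j j'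
    obtain ⟨t, ht⟩ := ex_cp (hP.md i) (hP.one_le i) l
    have ne : ∀ {a b : Fin 4} {u v : ℕ}, Cp (m i) a u → Cp (m i) b v → a ≠ b → u ≠ v := fun ha hb h e =>
      h (tn_cop ha.1 ha.2.1 ha.2.2.2 (e ▸ hb.2.2.2))
    rcases coc hπ hK (layer Γ) hM hr.1 hs.1 ht.1 (ne hr hs hne) (ne hr ht l1) (ne hs ht l2) dr ds
      (hL.dvd i l t ht) with h | h | h
    exacts [hU.nonadj hP hr hs hne h, hU.nonadj hP hr ht l1 h, hU.nonadj hP hs ht l2 h]
  have ex : ∀ i, ∃ b, ∀ j, j ≠ b → ¬ Bad i j := fun i => by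
    by_cases h : ∃ j, Bad i j
    · obtain ⟨b, hb⟩ := h
      exact ⟨b, fun j hj k => hj (uniq i j b k hb)⟩
    · exact ⟨0, fun j _ k => h ⟨j, k⟩⟩
  choose b hb using ex
  have good : ∀ i j r, j ≠ b i → Cp (m i) j r → r.Coprime (Nat.card π.ker) ∧ r.Coprime (layer Γ).index :=
    fun i j r hj hr => ⟨(hr.1.coprime_iff_not_dvd).2 fun h => hb i j hj ⟨r, hr, .inl h⟩,
      (hr.1.coprime_iff_not_dvd).2 fun h => hb i j hj ⟨r, hr, .inr h⟩⟩
  have c : Nat.card G = Nat.card π.ker * (Nat.card (layer Γ) * (layer Γ).index) := by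
    rw [card_mul_index, ← π.ker.card_mul_index, index_ker, MonoidHom.range_eq_top.2 hπ, card_top]
  refine ⟨b, hP, hΓ, hF, fun i j r hj hr => ?_, fun i i' j j' r r' hi hj hj' hr hr' => ?_⟩
  · obtain ⟨g1, g2⟩ := good i j r hj hr
    exact g2.dvd_of_dvd_mul_right (g1.dvd_of_dvd_mul_left (c ▸ hL.dvd i j r hr))
  · obtain ⟨g1, g2⟩ := good i j r hj hr
    obtain ⟨g3, g4⟩ := good i' j' r' hj' hr'
    obtain ⟨y, hy⟩ := (hL.adj i i' j j' r r' hi hr hr').map_of_coprime π (Nat.Coprime.mul_left g1 g3)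
    exact ⟨y, mem_of_pow_mem ((layer Γ).pow_index_mem y) (hy ▸ Nat.Coprime.mul_left g2 g4), hy⟩

end CfsgLib.RP
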