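import Mathlib
import Cfsg.Agent.Lib.RP.Up
import Cfsg.Agent.Lib.RP.Cmp1

/-!
The component attached to an index.
-/

set_option autoImplicit false
set_option linter.unusedSectionVars false
set_option linter.unusedVariables false
set_option linter.style.haveILetI false

namespace CfsgLib.RP

open Cfsg Subgroup CfsgLib.BG CfsgLib.CIT.App CfsgLib.Comp CfsgLib.SpecSq
open scoped commutatorElement MatrixGroups

variable {G : Type*} [Group G] [Finite G] {Γ : Type*} [Group Γ] [Finite Γ] {π : G →* Γ}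
  {k : ℕ} {m : Fin k → ℕ}

variable {b : Fin k → Fin 4} {S : Fin k → Subgroup Γ}

theorem Cp.ne_of_class {n r s : ℕ} {j j' : Fin 4} (hr : Cp n j r) (hs : Cp n j' s) (hj : j ≠ j') :
    r ≠ s := fun e => hj (tn_cop hr.1 hr.2.1 hr.2.2.2 (e ▸ hs.2.2.2))

/-- primes of different classes of `i` dividing components `T`, `T'` force `T = T'` -/
theorem Sd.comp_eq (h : Sd m Γ b) {i : Fin k} {j j' : Fin 4} {r s : ℕ} (hr : Cp (m i) j r)
    (hs : Cp (m i) j' s) (hj : j ≠ j') {T T' : Subgroup Γ} (hT : IsComponent T)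
    (hT' : IsComponent T') (dr : r ∣ Nat.card T) (ds : s ∣ Nat.card T') : T = T' := by
  by_contra e
  obtain ⟨g, -, hg⟩ := exists_mul_of_cent hr.1 hs.1 (hr.ne_of_class hs hj) dr ds
    (comp_le_centralizer_of_ne hT' hT (Ne.symm e)) le_top le_top
  exact h.up.nonadj h.par hr hs hj ⟨g, hg⟩

theorem fin4_avoid (x y : Fin 4) : ∃ j, j ≠ x ∧ j ≠ y := by revert x y; decide

theorem Sd.ex (h : Sd m Γ b) (i : Fin k) (j : Fin 4) : ∃ r, Cp (m i) j r :=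
  ex_cp (h.par.md i) (h.par.one_le i) j

theorem Sd.sc (h : Sd m Γ b) : ∃ S : Fin k → Subgroup Γ, Sc m b S := by
  have key : ∀ i, ∃ T : Subgroup Γ, IsComponent T ∧
      ∀ j r T', Cp (m i) j r → IsComponent T' → r ∣ Nat.card T' → T' = T := fun i => by
    obtain ⟨j₀, h₀, -⟩ := fin4_avoid (b i) (b i)
    obtain ⟨j₁, h₁, h₁'⟩ := fin4_avoid (b i) j₀
    obtain ⟨r₀, c₀⟩ := h.ex i j₀
    obtain ⟨r₁, c₁⟩ := h.ex i j₁
    obtain ⟨T₀, t₀, d₀⟩ := lay_dvd c₀.1 (h.dvd i j₀ r₀ h₀ c₀)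
    obtain ⟨T₁, t₁, d₁⟩ := lay_dvd c₁.1 (h.dvd i j₁ r₁ h₁ c₁)
    refine ⟨T₀, t₀, fun j r T' c t d => ?_⟩
    by_cases e : j = j₀
    · exact (h.comp_eq c c₁ (e ▸ h₁'.symm) t t₁ d d₁).trans (h.comp_eq c₁ c₀ h₁' t₁ t₀ d₁ d₀)
    · exact h.comp_eq c c₀ e t t₀ d d₀
  choose S h1 h2 using key
  refine ⟨S, h, h1, fun i j r hj c => ?_, h2⟩
  obtain ⟨T, t, d⟩ := lay_dvd c.1 (h.dvd i j r hj c)
  exact h2 i j r T c t d ▸ d

theorem Sc.inj (h : Sc m b S) : Function.Injective S := fun i i' e => by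
  by_contra hi
  have ord : ∀ {u v : Fin k} {j j' : Fin 4} {r s : ℕ}, u ≠ v → j ≠ b u → j' ≠ b v → Cp (m u) j r →
      Cp (m v) j' s → S u = S i → S v = S i → HasOrd (S i) (r * s) :=
    fun {u v j j' r s} huv hj hj' c c' e1 e2 => by
      obtain ⟨y, hy, ho⟩ := h.sd.adj u v j j' r s huv hj hj' c c'
      refine hasOrd_sub.2 ⟨y, lay_mem h.sd.fit (h.comp i) hy fun p T hp hd hT hc => ?_, ho⟩
      rcases (Nat.Prime.dvd_mul hp).1 (ho ▸ hd) with d | d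
      · rw [(Nat.prime_dvd_prime_iff_eq hp c.1).1 d] at hc
        exact (h.uniq u j r T c hT hc).trans e1
      · rw [(Nat.prime_dvd_prime_iff_eq hp c'.1).1 d] at hc
        exact (h.uniq v j' s T c' hT hc).trans e2
  obtain ⟨j₀, h₀, -⟩ := fin4_avoid (b i) (b i)
  obtain ⟨j₁, h₁, h₁'⟩ := fin4_avoid (b i) j₀
  obtain ⟨j₂, h₂, -⟩ := fin4_avoid (b i') (b i')
  obtain ⟨r₀, c₀⟩ := h.sd.ex i j₀
  obtain ⟨r₁, c₁⟩ := h.sd.ex i j₁
  obtain ⟨r₂, c₂⟩ := h.sd.ex i' j₂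
  refine h.sd.up.nonadj h.sd.par c₀ c₁ h₁'.symm (cmp_trans h.sd.fit h.sd.up.no4 (h.comp i) c₀.1 c₂.1
    c₁.1 c₀.five_le c₂.five_le c₁.five_le (fun q => hi (h.sd.par.excl c₀ (q ▸ c₂.2.2.2)).1)
    (fun q => hi (h.sd.par.excl c₁ (q ▸ c₂.2.2.2)).1) (c₀.ne_of_class c₁ h₁'.symm)
    (ord hi h₀ h₂ c₀ c₂ rfl e.symm) (ord (Ne.symm hi) h₂ h₁ c₂ c₁ e.symm rfl)).of_subgroup

theorem Sc.comm (h : Sc m b S) {i i' : Fin k} (hi : i ≠ i') : S i ≤ 𝒞(S i') :=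
  comp_le_centralizer_of_ne (h.comp i) (h.comp i') fun e => hi (h.inj e)

/-- a family of elements of good prime orders -/
theorem Sc.elts (h : Sc m b S) : ∃ (j : Fin k → Fin 4) (x : Fin k → Γ),
    ∀ i, x i ∈ S i ∧ Cp (m i) (j i) (orderOf (x i)) := by
  have key : ∀ i, ∃ (j : Fin 4) (x : Γ), x ∈ S i ∧ Cp (m i) j (orderOf x) := fun i => by
    obtain ⟨j, hj, -⟩ := fin4_avoid (b i) (b i)
    obtain ⟨r, c⟩ := h.sd.ex i j
    obtain ⟨x, hx, e⟩ := hasOrd_sub.1 (hasOrd_of_prime_dvd c.1 (h.dvd i j r hj c))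
    exact ⟨j, x, hx, e ▸ c⟩
  choose j x hx using key
  exact ⟨j, x, hx⟩

end CfsgLib.RP
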