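import Mathlib
import Cfsg.Agent.Lib.RP.Soc2
import Cfsg.Agent.Lib.RP.Pe

/-!
All components are attached; orders in the attached components.
-/

set_option autoImplicit false
set_option linter.unusedSectionVars false
set_option linter.unusedVariables false
set_option linter.style.haveILetI false

namespace CfsgLib.RP

open Cfsg Subgroup CfsgLib.BG CfsgLib.CIT.App CfsgLib.Comp CfsgLib.SpecSq
open scoped commutatorElement MatrixGroups

variable {G : Type*} [Group G] [Finite G] {Γ : Type*} [Group Γ] [Finite Γ] {π : G →* Γ}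
  {k : ℕ} {m : Fin k → ℕ}

variable {b : Fin k → Fin 4} {S : Fin k → Subgroup Γ}

namespace Soc3

theorem com (h : Sc m b S) {i i' : Fin k} (hi : i ≠ i') {x y : Γ} (hx : x ∈ S i) (hy : y ∈ S i') :
    Commute x y := (mem_centralizer_iff.1 (h.comm hi hx) y hy).symm

theorem cop (h : Sc m b S) {i i' : Fin k} (hi : i ≠ i') {y : Γ} (hy : y ∈ S i) {j : Fin 4} {r : ℕ}
    (hr : Cp (m i') j r) : (orderOf y).Coprime r := by
  refine ((Nat.Prime.coprime_iff_not_dvd hr.1).2 fun hd => hi (h.inj ?_)).symm
  exact h.uniq i' j r _ hr (h.comp i) (hd.trans (orderOf_dvd_natCard _ hy))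

end Soc3

open Soc3

/-- otherwise an element of order `3` of `T` (`cmp_three`) commutes with `Sc.elts`; `pe_opt`,
`U.all_prime`, `not3` -/
theorem Sc.all (h : Sc m b S) {T : Subgroup Γ} (hT : IsComponent T) : ∃ i, T = S i := by
  by_contra hn
  push Not at hn
  obtain ⟨⟨y, hyT⟩, hy⟩ := hasOrd_of_prime_dvd Nat.prime_three (cmp_three h.sd.fit h.sd.up.no4 hT)
  rw [← orderOf_coe] at hy
  change orderOf y = 3 at hy
  obtain ⟨j, x, hx⟩ := h.elts
  obtain ⟨g, g3, gx⟩ := pe_opt x y (fun i i' hi => com h hi (hx i).1 (hx i').1)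
    (fun i i' hi => cop h hi (hx i).1 (hx i').2)
    (fun i => (mem_centralizer_iff.1 (comp_le_centralizer_of_ne hT (h.comp i) (hn i) hyT) _ (hx i).1).symm)
    (fun i => by
      rw [hy]
      have := (hx i).2.five_le
      exact (Nat.coprime_primes Nat.prime_three (hx i).2.1).2 (by omega))
  obtain ⟨i, hi⟩ := U.all_prime h.sd.par h.sd.up (fun i => (hx i).2) gx Nat.prime_three (hy ▸ g3)
  exact not3 _ _ hi

/-- `U.pr`, `uniq`, `Sc.inj` -/
theorem Sc.pr (h : Sc m b S) {i : Fin k} {r : ℕ} (hr : r.Prime) (hd : r ∣ Nat.card (S i)) :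
    r = 2 ∨ r = 3 ∨ r = 7 ∨ ∃ j, Cp (m i) j r := by
  rcases h.sd.up.pr hr (hd.trans (card_subgroup_dvd_card _)) with h1 | h1 | h1 | ⟨i', j, h1⟩
  · exact .inl h1
  · exact .inr (.inl h1)
  · exact .inr (.inr (.inl h1))
  · obtain rfl := h.inj (h.uniq i' j r _ h1 (h.comp i) hd)
    exact .inr (.inr (.inr ⟨j, h1⟩))

/-- `pe` for `Function.update x i₀ y` (`x` from `Sc.elts`; the orders are coprime by `uniq`), `U.all` -/
theorem Sc.key (h : Sc m b S) {i₀ : Fin k} {y : Γ} (hy : y ∈ S i₀) {j : Fin 4} {r : ℕ}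
    (hr : Cp (m i₀) j r) (hd : r ∣ orderOf y) : ∃ j' : Fin k → Fin 4, j' i₀ = j ∧
      orderOf y ∣ Finset.univ.lcm fun i => tn (m i) (j' i) := by
  classical
  obtain ⟨j₁, x, hx⟩ := h.elts
  have mem : ∀ i, Function.update x i₀ y i ∈ S i := fun i => by
    by_cases hi : i = i₀
    · subst hi
      rwa [Function.update_self]
    · rw [Function.update_of_ne hi]
      exact (hx i).1
  obtain ⟨g, -, hg⟩ := pe (Function.update x i₀ y) (fun i i' hi => com h hi (mem i) (mem i')) (fun i i' hi => by
    by_cases h' : i' = i₀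
    · refine Nat.Coprime.symm ?_
      rw [Function.update_of_ne (h' ▸ hi : i ≠ i₀)]
      exact cop h hi.symm (mem i') (hx i).2
    · beta_reduce
      rw [Function.update_of_ne h']
      exact cop h hi (mem i) (hx i').2)
  have dv : ∀ i, orderOf (Function.update x i₀ y i) ∣ orderOf g := fun i =>
    hg ▸ Finset.dvd_prod_of_mem _ (Finset.mem_univ i)
  have dy : orderOf y ∣ orderOf g := by simpa using dv i₀
  refine ⟨Function.update j₁ i₀ j, Function.update_self .., dy.trans (U.all h.sd.par h.sd.up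
    (r := Function.update (fun i => orderOf (x i)) i₀ r) (fun i => ?_) fun i => ?_)⟩
  · by_cases hi : i = i₀
    · subst hi
      rwa [Function.update_self, Function.update_self]
    · rw [Function.update_of_ne hi, Function.update_of_ne hi]
      exact (hx i).2
  · by_cases hi : i = i₀
    · subst hi
      rw [Function.update_self]
      exact hd.trans dy
    · have := dv i
      rw [Function.update_of_ne hi] at this ⊢
      exact this

end CfsgLib.RP
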