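import Mathlib
import Cfsg.Agent.Lib.RP.Soc3
import Cfsg.Agent.Lib.RP.Cmp2

/-!
The attached components are the right Ree groups.
-/

set_option autoImplicit false
set_option linter.unusedSectionVars false
set_option linter.unusedVariables false
set_option linter.style.haveILetI false

namespace CfsgLib.RP

open Cfsg Subgroup CfsgLib.BG CfsgLib.CIT.App CfsgLib.Comp CfsgLib.SpecSq
open scoped commutatorElement MatrixGroups

variable {G : Type*} [Group G] [Finite G] {Γ : Type*} [Group Γ] [Finite Γ] {π : G →* Γ}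
  {k : ℕ} {m : Fin k → ℕ}

variable {b : Fin k → Fin 4} {S : Fin k → Subgroup Γ}

theorem soc4_no3 (h : Sc m b S) {i : Fin k} {j : Fin 4} {r : ℕ} (hr : Cp (m i) j r) :
    ¬ HasOrd (S i) (3 * r) := by
  rintro ⟨y, hy⟩
  have hy' : orderOf (y : Γ) = 3 * r := by rw [Subgroup.orderOf_coe, hy]
  obtain ⟨j', -, hj'⟩ := h.key y.2 hr (by rw [hy']; exact Dvd.intro_left 3 rfl)
  have h3 : 3 ∣ Finset.univ.lcm fun i => tn (m i) (j' i) :=
    (show 3 ∣ orderOf (y : Γ) by rw [hy']; exact Dvd.intro r rfl).trans hj'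
  obtain ⟨i', hi'⟩ := prime_dvd_lcm Nat.prime_three h3
  exact not3 _ _ hi'

/-- `cmp_ree` with primes of the three good classes (`Sc.key`, `prime_dvd_lcm`, `not3` for the orders
`3 a`) -/
theorem Sc.isoRee (h : Sc m b S) (i : Fin k) : Lie.IsoRee (S i) := by
  have hP := h.sd.par
  have hne : ∀ s : Fin 3, (b i).succAbove s ≠ b i := fun s => Fin.succAbove_ne (b i) s
  have hinj : ∀ s t : Fin 3, s ≠ t → (b i).succAbove s ≠ (b i).succAbove t := fun s t hst he =>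
    hst (Fin.succAbove_right_injective he)
  choose r hr using fun s : Fin 3 => ex_cp (hP.md i) (hP.one_le i) ((b i).succAbove s)
  have hd : ∀ s t : Fin 3, s ≠ t → r s ≠ r t := by
    intro s t hst he
    exact hinj s t hst (hP.excl (hr s) (he ▸ (hr t).2.2.2)).2
  have hn : ∀ s t : Fin 3, s ≠ t → ¬ HasOrd (S i) (r s * r t) := fun s t hst ho =>
    h.sd.up.nonadj hP (hr s) (hr t) (hinj s t hst) ho.of_subgroup
  have h5 : ¬ 5 ∣ Nat.card (S i) := fun h5 =>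
    h.sd.up.no5 (h5.trans (Subgroup.card_subgroup_dvd_card (S i)))
  exact cmp_ree h.sd.fit h.sd.up.no4 (h.comp i) h5 (hr 0).1 (hr 1).1 (hr 2).1 (hr 0).five_le
    (hr 1).five_le (hr 2).five_le (hd 0 1 (by decide)) (hd 1 2 (by decide)) (hd 0 2 (by decide))
    (h.dvd i _ _ (hne 0) (hr 0)) (h.dvd i _ _ (hne 1) (hr 1)) (h.dvd i _ _ (hne 2) (hr 2))
    (hn 0 1 (by decide)) (hn 1 2 (by decide)) (hn 0 2 (by decide))
    (soc4_no3 h (hr 0)) (soc4_no3 h (hr 1)) (soc4_no3 h (hr 2))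

theorem soc4_half (n : ℕ) (hn : 1 ≤ n) : ∃ N, 3 ^ (2 * n + 1) - 1 = 2 * N ∧ ¬ 2 ∣ N ∧ N ≠ 1 := by
  have h4 : 3 ^ (2 * n + 1) % 4 = 3 := by
    rw [pow_succ, pow_mul, Nat.mul_mod, Nat.pow_mod]
    norm_num
  have h27 : 3 ^ 3 ≤ 3 ^ (2 * n + 1) := Nat.pow_le_pow_right (by norm_num) (by omega)
  refine ⟨(3 ^ (2 * n + 1) - 1) / 2, by omega, by omega, by omega⟩

/-- parameter `n'`: `y ∈ S i` of order `q' - 1 = tn n' 0` (`ree_ord`). Every prime `t` of the odd number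
`N = (q'-1)/2 > 1` is a class prime of `i` (`Sc.pr`, `ar_37`), of class `0` and `p ∣ 2 n' + 1` (`ar_dvd`).
`Sc.key`, `Par.excl`, `dvd_of_dvd_lcm` give `N ∣ tn (m i) 0`; `ar_eq`. -/
theorem Sc.ree (h : Sc m b S) (i : Fin k) : ∃ (K : Type) (_ : Field K) (_ : Fintype K),
    Fintype.card K = 3 ^ (2 * m i + 1) ∧ Nonempty (S i ≃* Lie.twistedG2 K (3 ^ m i)) := by
  have hP := h.sd.par
  obtain ⟨K, hF, hT, n, hn, hK, ⟨e⟩⟩ := h.isoRee i
  suffices hs : n = m i by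
    subst hs
    exact ⟨K, hF, hT, hK, ⟨e⟩⟩
  obtain ⟨N, hN, hodd, hN1⟩ := soc4_half n hn
  have hNd : N ∣ 3 ^ (2 * n + 1) - 1 := by rw [hN]; exact Dvd.intro_left 2 rfl
  have hom : Om n N := Or.inr (Or.inr ⟨0, hNd⟩)
  obtain ⟨y, hy⟩ : HasOrd (S i) N := (hasOrd_congr e).2 ((ree_ord hn hK N).2 hom)
  have hy' : orderOf (y : Γ) = N := by rw [Subgroup.orderOf_coe, hy]
  have hcard : N ∣ Nat.card (S i) := hy ▸ orderOf_dvd_natCard y
  have hcl : ∀ t : ℕ, t.Prime → t ∣ N → Cp (m i) 0 t ∧ (2 * m i + 1) ∣ (2 * n + 1) := by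
    intro t ht htN
    have h2 : t ≠ 2 := by rintro rfl; exact hodd htN
    obtain ⟨h3, h7⟩ := ar_37 (htN.trans hNd)
    rcases h.pr ht (htN.trans hcard) with h' | h' | h' | ⟨j, hj⟩
    · exact absurd h' h2
    · exact absurd h' h3
    · exact absurd h' h7
    · obtain ⟨rfl, hp⟩ := ar_dvd (hP.prime i) ht h2 (htN.trans hNd) hj.2.2.2
      exact ⟨hj, hp⟩
  obtain ⟨hc, hp⟩ := hcl _ (Nat.minFac_prime hN1) (Nat.minFac_dvd N)
  obtain ⟨j', hj0, hj'⟩ := h.key y.2 hc (by rw [hy']; exact Nat.minFac_dvd N)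
  rw [hy'] at hj'
  have hdv : N ∣ tn (m i) (j' i) := by
    refine dvd_of_dvd_lcm (f := fun i => tn (m i) (j' i)) i hj' fun i' hi' => ?_
    refine Nat.coprime_of_dvd fun t ht htN htn => ?_
    exact hi' (hP.excl (hcl t ht htN).1 htn).1.symm
  rw [hj0] at hdv
  refine ar_eq hp ?_
  rw [hN, Nat.mul_div_cancel_left N (by norm_num : 0 < 2)]
  exact hdv

end CfsgLib.RP
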