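import Mathlib
import Cfsg.Agent.Lib.RP.Soc3

/-!
The quotient by the radical is the direct product.
-/

set_option autoImplicit false
set_option linter.unusedSectionVars false
set_option linter.unusedVariables false
set_option linter.style.haveILetI false

namespace CfsgLib.RP

open Cfsg Subgroup CfsgLib.BG CfsgLib.CIT.App CfsgLib.Comp CfsgLib.SpecSq
open scoped commutatorElement MatrixGroups

variable {G : Type*} [Group G] [Finite G] {Γ : Type*} [Group Γ] [Finite Γ] {π : G →* Γ}
  {k : ℕ} {m : Fin k → ℕ}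

variable {b : Fin k → Fin 4} {S : Fin k → Subgroup Γ}

/-- `cj g (S i)` is a component (`comp_map_conj`) of the same order, so equal to `S i` (`uniq`);
`dec`: `out`, `U.cop`, `mem_of_pow_mem`; `cent`: `eq_bot_of_cents`, `Sc.all` -/
theorem Sc.dp (h : Sc m b S) (hr : ∀ i, Rp (m i) (S i)) : Dp m S := by
  refine ⟨hr, fun i i' hi => h.comm hi, fun i g => ?_, fun g hg => ?_⟩
  · obtain ⟨j, hj⟩ := exists_ne (b i)
    obtain ⟨r, hc⟩ := ex_cp (h.sd.par.md i) (h.sd.par.one_le i) j
    have h1 : g ∈ 𝒩(S i) := mem_norm_iff.2 (h.uniq i j r _ hc (comp_map_conj (h.comp i) g)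
      (by rw [card_cj]; exact h.dvd i j r hj hc))
    refine mem_of_pow_mem ((hr i).out g h1) ?_
    exact ((h.sd.par.prime i).coprime_iff_not_dvd.2 fun hd =>
      h.sd.up.cop h.sd.par i (hd.trans (orderOf_dvd_natCard g))).symm
  · have h1 := eq_bot_of_cents h.sd.fit (X := zpowers g) fun L hL => by
      obtain ⟨i, rfl⟩ := h.all hL
      exact zpowers_le.2 (hg i)
    exact zpowers_eq_bot.1 h1

end CfsgLib.RP
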