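import Mathlib
import Cfsg.Agent.Lib.RP.Ar2

/-!
The element orders of the direct product.
-/

set_option autoImplicit false
set_option linter.unusedSectionVars false
set_option linter.unusedVariables false
set_option linter.style.haveILetI false

namespace CfsgLib.RP

open Cfsg Subgroup CfsgLib.BG CfsgLib.CIT.App CfsgLib.Comp CfsgLib.SpecSq
open scoped commutatorElement MatrixGroups

variable {G : Type*} [Group G] [Finite G] {Γ : Type*} [Group Γ] [Finite Γ] {π : G →* Γ}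
  {k : ℕ} {m : Fin k → ℕ}

/-- `o i = orderOf (f i)` (`ree_ord`); from below use `Pi.mulSingle` (`Par.excl`: the two primes differ) -/
theorem spec (hP : Par m) (K : Fin k → Type) [∀ i, Field (K i)] [∀ i, Fintype (K i)]
    (hK : ∀ i, Fintype.card (K i) = 3 ^ (2 * m i + 1))
    (h : Set.range (orderOf : G → ℕ) =
      Set.range (orderOf : ((i : Fin k) → Lie.twistedG2 (K i) (3 ^ m i)) → ℕ)) :
    U m G ∧ Lo m G := by
  classical
  have tr : ∀ d, HasOrd G d ↔ HasOrd ((i : Fin k) → Lie.twistedG2 (K i) (3 ^ m i)) d := fun d => by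
    rw [hasOrd_iff_mem_range, hasOrd_iff_mem_range, h]
  have ex : ∀ i j r, Cp (m i) j r → ∃ x : Lie.twistedG2 (K i) (3 ^ m i), orderOf x = r := fun i j r hr =>
    (ree_ord (hP.one_le i) (hK i) r).2 (Or.inr (Or.inr ⟨j, hr.2.2.2⟩))
  refine ⟨fun g => ?_, fun i j r hr => ?_, fun i i' j j' r r' hi hr hr' => ?_⟩
  · obtain ⟨f, hf⟩ := (tr _).1 ⟨g, rfl⟩
    refine ⟨fun i => orderOf (f i), fun i => (ree_ord (hP.one_le i) (hK i) _).1 ⟨_, rfl⟩, ?_⟩
    rw [← hf, orderOf_dvd_iff_pow_eq_one]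
    funext i
    exact orderOf_dvd_iff_pow_eq_one.1 (Finset.dvd_lcm (f := fun i => orderOf (f i)) (Finset.mem_univ i))
  · obtain ⟨x, hx⟩ := ex i j r hr
    exact ((tr r).2 ⟨Pi.mulSingle i x, by rw [orderOf_piMulSingle, hx]⟩).dvd_card
  · obtain ⟨x, hx⟩ := ex i j r hr
    obtain ⟨y, hy⟩ := ex i' j' r' hr'
    refine (tr _).2 (hasOrd_mul_of_commute (Pi.mulSingle_commute hi x y) ?_ ?_ ?_)
    · rw [orderOf_piMulSingle, hx]
    · rw [orderOf_piMulSingle, hy]
    · exact (Nat.coprime_primes hr.1 hr'.1).2 fun e => hi (hP.excl hr (e ▸ hr'.2.2.2)).1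

end CfsgLib.RP
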