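import Mathlib
import Cfsg.Agent.Lib.RP.Soc1
import Cfsg.Agent.Lib.RP.Soc4
import Cfsg.Agent.Lib.RP.Soc5
import Cfsg.Agent.Lib.RP.Ree
import Cfsg.Agent.Lib.RP.KerM
import Cfsg.Agent.Lib.RP.Spec
import Cfsg.Agent.Lib.RP.Seq

/-!
Recognition of the direct products.
-/

set_option autoImplicit false
set_option linter.unusedSectionVars false
set_option linter.unusedVariables false
set_option linter.style.haveILetI false

namespace CfsgLib.RP

open Cfsg Subgroup CfsgLib.BG CfsgLib.CIT.App CfsgLib.Comp CfsgLib.SpecSq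
open scoped commutatorElement MatrixGroups

variable {G : Type*} [Group G] [Finite G] {Γ : Type*} [Group Γ] [Finite Γ] {π : G →* Γ}
  {k : ℕ} {m : Fin k → ℕ}

theorem recog (hP : Par m) (K : Fin k → Type) [∀ i, Field (K i)] [∀ i, Fintype (K i)]
    (hK : ∀ i, Fintype.card (K i) = 3 ^ (2 * m i + 1))
    (h : Set.range (orderOf : G → ℕ) =
      Set.range (orderOf : ((i : Fin k) → Lie.twistedG2 (K i) (3 ^ m i)) → ℕ)) :
    Nonempty (G ≃* ((i : Fin k) → Lie.twistedG2 (K i) (3 ^ m i))) := by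
  obtain ⟨hU, hL⟩ := spec hP K hK h
  obtain ⟨R, _, hR, hF⟩ := SpecSq.exists_rad G
  have hπ := QuotientGroup.mk'_surjective R
  rw [← QuotientGroup.ker_mk' R] at hR
  generalize QuotientGroup.mk' R = π at hπ hR
  obtain ⟨b, hb⟩ := soc1 hP hU hL hπ hR hF
  obtain ⟨S, hS⟩ := hb.sc
  have he : ∀ i, Nonempty (S i ≃* Lie.twistedG2 (K i) (3 ^ m i)) := fun i => by
    obtain ⟨F, _, _, h1, ⟨e⟩⟩ := hS.ree i
    exact ⟨e.trans (Syl8.twistedG2Equiv (FiniteField.ringEquivOfCardEq (h1.trans (hK i).symm)) _)⟩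
  have e := fun i => (he i).some
  have hD := hS.dp fun i =>
    have h1 := comp_simp hF (hS.comp i)
    rp_of (hP.one_le i) (hP.md i) (hK i) h1.1 h1.2.1 h1.2.2 (e i)
  obtain ⟨e₀⟩ := pi_iso S hD.comm (fun i => (hD.rp i).inf_cent) hD.dec hD.cent
  exact ⟨(MulEquiv.ofBijective π ⟨(MonoidHom.ker_eq_bot_iff π).1 (ker_bot hP hU hD hπ hR), hπ⟩).trans
    (e₀.trans (MulEquiv.piCongrRight e))⟩

theorem main : ∃ p : ℕ → ℕ, StrictMono p ∧ (∀ i, (p i).Prime ∧ Odd (p i)) ∧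
    ∀ (k : ℕ) (K : Fin k → Type) [∀ i, Field (K i)] [∀ i, Fintype (K i)],
      (∀ i, Fintype.card (K i) = 3 ^ (p i)) → ∀ (G : Type) [Group G] [Finite G],
        Set.range (orderOf : G → ℕ) = Set.range (orderOf :
          ((i : Fin k) → Lie.twistedG2 (K i) (3 ^ ((p i - 1) / 2))) → ℕ) →
        Nonempty (G ≃* ((i : Fin k) → Lie.twistedG2 (K i) (3 ^ ((p i - 1) / 2)))) := by
  obtain ⟨p, h1, h2, h3⟩ := seq
  have h4 : ∀ i, 2 * ((p i - 1) / 2) + 1 = p i := fun i => by have := (h2 i).2; omega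
  refine ⟨p, h1, fun i => ⟨(h2 i).1, Nat.odd_iff.2 (by have := (h2 i).2; omega)⟩,
    fun k K _ _ hK G _ _ h => recog (m := fun i : Fin k => (p i - 1) / 2) ⟨fun i => ?_, fun i => ?_,
      fun i i' e => ?_, fun i i' j => ?_⟩ K (fun i => ?_) h⟩
  · rw [h4]; exact (h2 i).1
  · rw [h4]; exact (h2 i).2
  · exact Fin.ext (h1.injective (by rw [← h4 i, ← h4 i']; exact congrArg (2 * · + 1) e))
  · rw [h4]; exact h3 i i' j
  · rw [h4]; exact hK i

end CfsgLib.RP
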